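import Cfsg.Agent.H284.EP.Engine

/-!
# S5745, task E1 (helper742): the counting inequality `E_pi`

`G` finite, `H ≤ G`, `n = |G : H|`, `F x` = number of fixed points of `x` on `G / H`. Let `π` be a set of primes such
that every two-point stabiliser `H ∩ H^g` (`g ∉ H`) has order divisible by some `r ∈ π`. Then

* `card_fix` : `F x * |x^G| = n * |x^G ∩ H|`;
* `e_pi` : `n - 1 ≤ ∑_{r ∈ π} 1 / (r - 1) ∑_{x ∈ H, |x| = r} (F x - 1)`;
* `e_pi_class` : `n - 1 ≤ n ∑_{r ∈ π} 1 / (r - 1) ∑_{x ∈ H, |x| = r} |x^G ∩ H| / |x^G|`;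
* `e_pi_crude` : `n - 1 ≤ n ∑_{r ∈ π} N_r ^ 2 / ((r - 1) c_r)` if `H` has at most `N_r` elements of order `r` and all of
  them have `|x^G| ≥ c_r`.
-/

set_option autoImplicit false
set_option linter.unusedSectionVars false

namespace Cfsg.Agent.H742.EX

open MulAction Subgroup Cfsg.Agent.H284

variable {G : Type*} [Group G]

/-- the fixed points of `x` on the cosets of `H` -/
noncomputable def F (H : Subgroup G) (x : G) : ℕ := Nat.card (fixedBy (G ⧸ H) x)

/-- the class of `x` intersected with `H` -/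
noncomputable def cH (H : Subgroup G) (x : G) : ℕ := Nat.card {y : G // IsConj x y ∧ y ∈ H}

/-- the class of `x` -/
noncomputable def cG (x : G) : ℕ := Nat.card {y : G // IsConj x y}

theorem cG_pos [Finite G] (x : G) : 0 < cG x := by
  have : Nonempty {y : G // IsConj x y} := ⟨⟨x, IsConj.refl x⟩⟩
  exact Nat.card_pos

theorem fixedBy_iff {H : Subgroup G} {x g : G} : (QuotientGroup.mk g : G ⧸ H) ∈ fixedBy (G ⧸ H) x ↔ g⁻¹ * x * g ∈ H := by
  rw [mem_fixedBy]
  change (QuotientGroup.mk (x * g) : G ⧸ H) = QuotientGroup.mk g ↔ _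
  rw [eq_comm, QuotientGroup.eq, mul_assoc]

/-- the fibres of `g ↦ g⁻¹ x g` -/
theorem card_fiber (x y : G) (hy : IsConj x y) :
    Nat.card {g : G // g⁻¹ * x * g = y} = Nat.card {g : G // g⁻¹ * x * g = x} := by
  obtain ⟨c, hc⟩ := isConj_iff.1 hy
  refine Nat.card_congr ⟨fun g => ⟨g.1 * c, ?_⟩, fun g => ⟨g.1 * c⁻¹, ?_⟩, ?_, ?_⟩
  · have h1 : (g.1 * c)⁻¹ * x * (g.1 * c) = c⁻¹ * (g.1⁻¹ * x * g.1) * c := by group
    rw [h1, g.2, ← hc]; group
  · have h1 : (g.1 * c⁻¹)⁻¹ * x * (g.1 * c⁻¹) = c * (g.1⁻¹ * x * g.1) * c⁻¹ := by group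
    rw [h1, g.2, ← hc]
  · intro g; exact Subtype.ext (by simp)
  · intro g; exact Subtype.ext (by simp)

theorem card_pre [Finite G] (x : G) (A : G → Prop) :
    Nat.card {g : G // A (g⁻¹ * x * g)} =
      Nat.card {y : G // IsConj x y ∧ A y} * Nat.card {g : G // g⁻¹ * x * g = x} := by
  classical
  let f : {g : G // A (g⁻¹ * x * g)} → {y : G // IsConj x y ∧ A y} := fun g =>
    ⟨g.1⁻¹ * x * g.1, isConj_iff.2 ⟨g.1⁻¹, by rw [inv_inv]⟩, g.2⟩
  have := Fintype.ofFinite {y : G // IsConj x y ∧ A y}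
  rw [Nat.card_congr (Equiv.sigmaFiberEquiv f).symm, Nat.card_sigma]
  have h1 : ∀ y : {y : G // IsConj x y ∧ A y}, Nat.card {g // f g = y} = Nat.card {g : G // g⁻¹ * x * g = x} := by
    intro y
    rw [← card_fiber x y.1 y.2.1]
    refine Nat.card_congr ⟨fun g => ⟨g.1.1, congrArg Subtype.val g.2⟩, fun g => ⟨⟨g.1, by rw [g.2]; exact y.2.2⟩,
      Subtype.ext g.2⟩, fun _ => rfl, fun _ => rfl⟩
  rw [Finset.sum_congr rfl (fun y _ => h1 y), Finset.sum_const, Finset.card_univ, smul_eq_mul,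
    ← Nat.card_eq_fintype_card]

theorem card_G [Finite G] (x : G) : Nat.card G = cG x * Nat.card {g : G // g⁻¹ * x * g = x} := by
  have h1 := card_pre x (fun _ => True)
  rw [Nat.card_congr (Equiv.subtypeUnivEquiv (fun _ : G => trivial))] at h1
  rw [h1, cG]
  congr 1
  exact Nat.card_congr (Equiv.subtypeEquivRight (by simp))

theorem F_mul [Finite G] (H : Subgroup G) (x : G) :
    F H x * Nat.card H = cH H x * Nat.card {g : G // g⁻¹ * x * g = x} := by
  have h1 := card_pre x (fun y => y ∈ H)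
  rw [cH, ← h1, F, mul_comm, ← Nat.card_prod]
  refine (Nat.card_congr ((Equiv.subtypeEquivRight fun g => ?_).trans
    (QuotientGroup.preimageMkEquivSubgroupProdSet H (fixedBy (G ⧸ H) x)))).symm
  exact fixedBy_iff.symm

/-- **`F x * |x^G| = n * |x^G ∩ H|`** -/
theorem card_fix [Finite G] (H : Subgroup G) (x : G) : F H x * cG x = H.index * cH H x := by
  have h1 := F_mul H x
  have h2 := card_G x
  have h3 := H.card_mul_index
  have hH : 0 < Nat.card H := Nat.card_pos
  have key : Nat.card H * (F H x * cG x) = Nat.card H * (H.index * cH H x) := by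
    calc Nat.card H * (F H x * cG x) = (F H x * Nat.card H) * cG x := by ring
      _ = cH H x * (cG x * Nat.card {g : G // g⁻¹ * x * g = x}) := by rw [h1]; ring
      _ = cH H x * Nat.card G := by rw [← h2]
      _ = _ := by rw [← h3]; ring
  exact Nat.eq_of_mul_eq_mul_left hH key

/-- the elements of order `r` of `H` -/
noncomputable def el (H : Subgroup G) (r : ℕ) [Finite G] : Finset G := by
  classical
  exact (Set.toFinite {x : G | x ∈ H ∧ orderOf x = r}).toFinset

theorem mem_el [Finite G] {H : Subgroup G} {r : ℕ} {x : G} : x ∈ el H r ↔ x ∈ H ∧ orderOf x = r := by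
  simp [el]

/-- a group of order divisible by the prime `r` has at least `r - 1` elements of order `r` -/
theorem le_card_el [Finite G] (M : Subgroup G) {r : ℕ} (hr : r.Prime) (hd : r ∣ Nat.card M) : r - 1 ≤ (el M r).card := by
  classical
  have : Fact r.Prime := ⟨hr⟩
  obtain ⟨x, hx⟩ := exists_prime_orderOf_dvd_card' r hd
  have hx' : orderOf (x : G) = r := by rw [Subgroup.orderOf_coe, hx]
  have h1 : ((Finset.range r).erase 0).card = r - 1 := by
    rw [Finset.card_erase_of_mem (Finset.mem_range.2 hr.pos), Finset.card_range]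
  rw [← h1]
  refine Finset.card_le_card_of_injOn (fun i => (x : G) ^ i) ?_ ?_
  · intro i hi
    simp only [Finset.coe_erase, Finset.coe_range, Set.mem_sdiff, Set.mem_Iio, Set.mem_singleton_iff] at hi
    rw [Finset.mem_coe, mem_el]
    refine ⟨M.pow_mem x.2 i, ?_⟩
    rw [Nat.Coprime.orderOf_pow]
    · exact hx'
    · rw [hx']
      exact (Nat.Prime.coprime_iff_not_dvd hr).2 fun hc => by
        have := Nat.le_of_dvd (by omega) hc
        omega
  · intro i hi j hj hij
    simp only [Finset.coe_erase, Finset.coe_range, Set.mem_sdiff, Set.mem_Iio, Set.mem_singleton_iff] at hi hj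
    have h2 := (pow_inj_mod (x := (x : G)) (n := i) (m := j)).1 hij
    rw [hx', Nat.mod_eq_of_lt hi.1, Nat.mod_eq_of_lt hj.1] at h2
    exact h2

/-- **E_pi** -/
theorem e_pi [Finite G] (H : Subgroup G) (π : Finset ℕ) (hπ : ∀ r ∈ π, r.Prime)
    (hM : ∀ g ∉ H, ∃ r ∈ π, r ∣ Nat.card (H ⊓ cj g H : Subgroup G)) :
    ((H.index : ℚ) - 1) ≤ ∑ r ∈ π, (1 / ((r : ℚ) - 1)) * ∑ x ∈ el H r, ((F H x : ℚ) - 1) := by
  classical
  have hfin : Finite (G ⧸ H) := inferInstance
  let _ : Fintype (G ⧸ H) := Fintype.ofFinite _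
  let o : G ⧸ H := QuotientGroup.mk 1
  -- the number of elements of order `r` fixing the point `b ≠ o`
  have hst : ∀ (b : G ⧸ H), b ≠ o → 1 ≤ ∑ r ∈ π, (1 / ((r : ℚ) - 1)) *
      (((el H r).filter (fun x => x • b = b)).card : ℚ) := by
    intro b hb
    obtain ⟨g, rfl⟩ := QuotientGroup.mk_surjective b
    have hg : g ∉ H := by
      intro hg
      apply hb
      change (QuotientGroup.mk g : G ⧸ H) = QuotientGroup.mk 1
      rw [QuotientGroup.eq, mul_one]
      exact H.inv_mem hg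
    obtain ⟨r, hr, hd⟩ := hM g hg
    have hrp := hπ r hr
    have h1 := le_card_el (H ⊓ cj g H) hrp hd
    have h2 : el (H ⊓ cj g H : Subgroup G) r ⊆ (el H r).filter (fun x => x • (QuotientGroup.mk g : G ⧸ H) = QuotientGroup.mk g) := by
      intro x hx
      rw [mem_el] at hx
      rw [Finset.mem_filter, mem_el]
      refine ⟨⟨hx.1.1, hx.2⟩, ?_⟩
      have h3 := mem_cj.1 hx.1.2
      exact (mem_fixedBy).1 (fixedBy_iff.2 h3)
    have h3 : ((r : ℚ) - 1) ≤ (((el H r).filter (fun x => x • (QuotientGroup.mk g : G ⧸ H) = QuotientGroup.mk g)).card : ℚ) := by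
      have h4 : r - 1 ≤ ((el H r).filter (fun x => x • (QuotientGroup.mk g : G ⧸ H) = QuotientGroup.mk g)).card :=
        h1.trans (Finset.card_le_card h2)
      have h5 : ((r - 1 : ℕ) : ℚ) ≤ _ := Nat.cast_le.2 h4
      rwa [Nat.cast_sub hrp.one_lt.le, Nat.cast_one] at h5
    have hpos : ∀ s ∈ π, (0 : ℚ) < (s : ℚ) - 1 := by
      intro s hs
      have : (1 : ℚ) < s := by exact_mod_cast (hπ s hs).one_lt
      linarith
    refine le_trans ?_ (Finset.single_le_sum (fun s hs => ?_) hr)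
    · rw [one_div, ← div_eq_inv_mul, le_div_iff₀ (hpos r hr), one_mul]
      exact h3
    · exact mul_nonneg (one_div_nonneg.2 (hpos s hs).le) (Nat.cast_nonneg _)
  have hsum := Finset.sum_le_sum (s := Finset.univ.erase o) (f := fun _ => (1 : ℚ)) (fun b hb =>
    hst b (Finset.ne_of_mem_erase hb))
  rw [Finset.sum_const, Finset.card_erase_of_mem (Finset.mem_univ _), Finset.card_univ, ← Nat.card_eq_fintype_card,
    nsmul_eq_mul, mul_one, Finset.sum_comm] at hsum
  have hidx : Nat.card (G ⧸ H) = H.index := rfl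
  have hi1 : 1 ≤ H.index := Nat.one_le_iff_ne_zero.2 (Subgroup.index_ne_zero_of_finite)
  rw [hidx, Nat.cast_sub hi1, Nat.cast_one] at hsum
  refine hsum.trans (le_of_eq ?_)
  refine Finset.sum_congr rfl fun r _ => ?_
  rw [← Finset.mul_sum]
  congr 1
  -- exchange
  have h1 : ∀ b : G ⧸ H, (((el H r).filter (fun x => x • b = b)).card : ℚ) =
      ∑ x ∈ el H r, (if x • b = b then (1 : ℚ) else 0) := by
    intro b
    rw [Finset.sum_boole]
  rw [Finset.sum_congr rfl (fun b _ => h1 b), Finset.sum_comm]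
  refine Finset.sum_congr rfl fun x hx => ?_
  rw [Finset.sum_boole, Finset.filter_erase]
  have hox : o ∈ Finset.univ.filter (fun b : G ⧸ H => x • b = b) := by
    rw [Finset.mem_filter]
    refine ⟨Finset.mem_univ _, ?_⟩
    change x • (QuotientGroup.mk 1 : G ⧸ H) = QuotientGroup.mk 1
    refine (mem_fixedBy).1 (fixedBy_iff.2 ?_)
    rw [inv_one, one_mul, mul_one]
    exact (mem_el.1 hx).1
  rw [Finset.card_erase_of_mem hox, Nat.cast_sub (Finset.card_pos.2 ⟨o, hox⟩), Nat.cast_one]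
  congr 1
  rw [F, Nat.card_eq_fintype_card, Fintype.card_subtype]
  rfl

theorem F_eq [Finite G] (H : Subgroup G) (x : G) : (F H x : ℚ) = H.index * (cH H x / cG x : ℚ) := by
  have h1 := card_fix H x
  have h2 : (0 : ℚ) < cG x := by exact_mod_cast cG_pos x
  have h3 : (F H x : ℚ) * cG x = H.index * cH H x := by exact_mod_cast h1
  field_simp
  exact h3

/-- **E_pi**, with classes -/
theorem e_pi_class [Finite G] (H : Subgroup G) (π : Finset ℕ) (hπ : ∀ r ∈ π, r.Prime)
    (hM : ∀ g ∉ H, ∃ r ∈ π, r ∣ Nat.card (H ⊓ cj g H : Subgroup G)) :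
    ((H.index : ℚ) - 1) ≤ H.index * ∑ r ∈ π, (1 / ((r : ℚ) - 1)) * ∑ x ∈ el H r, (cH H x / cG x : ℚ) := by
  refine (e_pi H π hπ hM).trans ?_
  rw [Finset.mul_sum]
  refine Finset.sum_le_sum fun r hr => ?_
  have hpos : (0 : ℚ) < (r : ℚ) - 1 := by
    have : (1 : ℚ) < r := by exact_mod_cast (hπ r hr).one_lt
    linarith
  rw [mul_left_comm]
  refine mul_le_mul_of_nonneg_left ?_ (one_div_nonneg.2 hpos.le)
  rw [Finset.mul_sum]
  refine Finset.sum_le_sum fun x _ => ?_
  rw [← F_eq]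
  linarith

/-- **E_pi**, crude form -/
theorem e_pi_crude [Finite G] (H : Subgroup G) (π : Finset ℕ) (hπ : ∀ r ∈ π, r.Prime)
    (hM : ∀ g ∉ H, ∃ r ∈ π, r ∣ Nat.card (H ⊓ cj g H : Subgroup G)) (N c : ℕ → ℕ)
    (hN : ∀ r ∈ π, (el H r).card ≤ N r) (hc0 : ∀ r ∈ π, 0 < c r)
    (hc : ∀ r ∈ π, ∀ x ∈ H, orderOf x = r → c r ≤ cG x) :
    ((H.index : ℚ) - 1) ≤ H.index * ∑ r ∈ π, ((N r : ℚ) ^ 2 / (((r : ℚ) - 1) * c r)) := by
  classical
  refine (e_pi_class H π hπ hM).trans ?_
  refine mul_le_mul_of_nonneg_left (Finset.sum_le_sum fun r hr => ?_) (Nat.cast_nonneg _)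
  have hpos : (0 : ℚ) < (r : ℚ) - 1 := by
    have : (1 : ℚ) < r := by exact_mod_cast (hπ r hr).one_lt
    linarith
  have hcp : (0 : ℚ) < c r := by exact_mod_cast hc0 r hr
  have h1 : ∑ x ∈ el H r, (cH H x / cG x : ℚ) ≤ (N r : ℚ) ^ 2 / c r := by
    have h2 : ∀ x ∈ el H r, (cH H x / cG x : ℚ) ≤ (N r : ℚ) / c r := by
      intro x hx
      obtain ⟨hx1, hx2⟩ := mem_el.1 hx
      have h3 : cH H x ≤ N r := by
        refine le_trans ?_ (hN r hr)
        have h5 : cH H x ≤ Nat.card (el H r) := by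
          refine Nat.card_le_card_of_injective (fun y => ⟨y.1, mem_el.2 ⟨y.2.2, ?_⟩⟩) ?_
          · obtain ⟨d, hd⟩ := isConj_iff.1 y.2.1
            rw [← hd, ← hx2]
            exact (MulAut.conj d).orderOf_eq x
          · intro y z hyz
            exact Subtype.ext (congrArg (fun t : el H r => (t : G)) hyz)
        rwa [Nat.card_eq_fintype_card, Fintype.card_coe] at h5
      have h4 := hc r hr x hx1 hx2
      gcongr
    refine (Finset.sum_le_sum h2).trans ?_
    rw [Finset.sum_const, nsmul_eq_mul, pow_two, mul_div_assoc]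
    refine mul_le_mul_of_nonneg_right ?_ (by positivity)
    exact_mod_cast hN r hr
  calc (1 / ((r : ℚ) - 1)) * ∑ x ∈ el H r, (cH H x / cG x : ℚ)
      ≤ (1 / ((r : ℚ) - 1)) * ((N r : ℚ) ^ 2 / c r) := mul_le_mul_of_nonneg_left h1 (one_div_nonneg.2 hpos.le)
    _ = _ := by field_simp

end Cfsg.Agent.H742.EX
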