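import Cfsg.Agent.S4040
import Cfsg.Agent.S0205
import Cfsg.Agent.H777.PGrp
import Cfsg.Agent.H209.EPX.Defs

/-!
# S5745 (helper742): no two-point stabiliser is an `s`-group

`EP H`, `M = H ∩ H^x` (`x ∉ H`). `M` is a maximal subgroup of `H`.

* `EP.isCoatom_M` : `M` is a coatom of the subgroup lattice of `H`;
* `EP.not_odd_nilp` : `H` not solvable: `M` is not nilpotent of odd order (`S4040`);
* `EP.hM_odd` : `H` not solvable, `s` an odd prime: `|M|` is divisible by a prime `r ≠ s` (`e_pi` with `π = π(H) - {s}`);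
* `EPS.not_solvable`, `EPT2.not_solvable`;
* `EP.noTwo_of_le` : `H` has a proper subgroup `K` of odd index which is not a `2`-group: `M` is not a `2`-group;
* `EPS.noTwo` : in the simple group `T` no involution with a centraliser of odd index has a `2`-group as centraliser:
  `M` is not a `2`-group;
* `EP.hM_two` : `M` is never a `2`-group: `|M|` is divisible by an odd prime (`e_pi` with `π = π(H) - {2}`).
-/

set_option autoImplicit false
set_option linter.unusedSectionVars false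

namespace Cfsg.Agent.H742.EX

open MulAction Subgroup Cfsg.Agent.H284 Cfsg.Agent.H209.EPX
open scoped Pointwise

variable {G : Type*} [Group G] [Finite G] {H : Subgroup G}

/-- `M` is maximal in `H` -/
theorem isCoatom_M (h : EP H) {x : G} (hx : x ∉ H) : IsCoatom ((H ⊓ cj x H).subgroupOf H) := by
  constructor
  · intro e
    apply h.not_le_cj hx
    intro y hy
    have h1 : (⟨y, hy⟩ : H) ∈ (H ⊓ cj x H).subgroupOf H := by rw [e]; exact mem_top _
    exact (mem_subgroupOf.1 h1).2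
  · intro L hL
    have h1 : H ⊓ cj x H ≤ L.map H.subtype := by
      intro y hy
      exact ⟨⟨y, hy.1⟩, hL.le (mem_subgroupOf.2 hy), rfl⟩
    have h2 : L.map H.subtype ≤ H := by
      rintro _ ⟨y, -, rfl⟩
      exact y.2
    rcases h.two x hx _ h1 h2 with h3 | h3
    · exfalso
      apply hL.ne
      apply le_antisymm hL.le
      intro y hy
      rw [mem_subgroupOf, ← h3]
      exact ⟨y, hy, rfl⟩
    · rw [eq_top_iff]
      intro y _
      have h4 : (y : G) ∈ L.map H.subtype := by rw [h3]; exact y.2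
      obtain ⟨z, hz, hzy⟩ := h4
      rwa [← Subtype.ext hzy]

theorem card_M_subgroupOf (H M : Subgroup G) (hM : M ≤ H) : Nat.card (M.subgroupOf H) = Nat.card M :=
  Nat.card_congr (Subgroup.subgroupOfEquivOfLe hM).toEquiv

/-- `M` is not nilpotent of odd order -/
theorem not_odd_nilp (h : EP H) (hs : ¬ Group.IsSolvable H) {x : G} (hx : x ∉ H)
    (hn : Group.IsNilpotent (H ⊓ cj x H : Subgroup G)) (ho : Odd (Nat.card (H ⊓ cj x H : Subgroup G))) : False := by
  apply hs
  refine Cfsg.Agent.S4040.result _ (isCoatom_M h hx) ?_ ?_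
  · exact Group.nilpotent_of_mulEquiv (Subgroup.subgroupOfEquivOfLe (inf_le_left : H ⊓ cj x H ≤ H)).symm
  · rwa [card_M_subgroupOf H _ inf_le_left]

/-- `M` is not a group of prime power order, the prime odd -/
theorem not_odd_pgroup (h : EP H) (hs : ¬ Group.IsSolvable H) {s : ℕ} (hsp : s.Prime) (hs2 : s ≠ 2) {x : G} (hx : x ∉ H)
    (hn : IsPGroup s (H ⊓ cj x H : Subgroup G)) : False := by
  have : Fact s.Prime := ⟨hsp⟩
  refine not_odd_nilp h hs hx hn.isNilpotent ?_
  obtain ⟨k, hk⟩ := IsPGroup.iff_card.1 hn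
  rw [hk]
  exact (hsp.odd_of_ne_two hs2).pow

/-- not an `s`-group: another prime divides the order -/
theorem exists_prime_of_not_pgroup {s : ℕ} (hsp : s.Prime) {M : Subgroup G} (hn : ¬ IsPGroup s M) :
    ∃ r : ℕ, r.Prime ∧ r ≠ s ∧ r ∣ Nat.card M := by
  have : Fact s.Prime := ⟨hsp⟩
  by_contra hcon
  push Not at hcon
  apply hn
  rw [IsPGroup.iff_card]
  refine ⟨_, Nat.eq_prime_pow_of_unique_prime_dvd Nat.card_pos.ne' fun {d} hd hdv => ?_⟩
  by_contra hne
  exact hcon d hd hne hdv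

/-- **hM**: `H` not solvable, `s` an odd prime: `|M|` is divisible by a prime `r ≠ s`. -/
theorem hM_odd (h : EP H) (hs : ¬ Group.IsSolvable H) {s : ℕ} (hsp : s.Prime) (hs2 : s ≠ 2) :
    ∀ g ∉ H, ∃ r ∈ (Nat.card H).primeFactors.erase s, r ∣ Nat.card (H ⊓ cj g H : Subgroup G) := by
  intro g hg
  obtain ⟨r, hr, hrs, hrd⟩ := exists_prime_of_not_pgroup hsp fun hn => not_odd_pgroup h hs hsp hs2 hg hn
  refine ⟨r, Finset.mem_erase.2 ⟨hrs, Nat.mem_primeFactors.2 ⟨hr, hrd.trans ?_, Nat.card_pos.ne'⟩⟩, hrd⟩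
  exact Subgroup.card_dvd_of_le inf_le_left

/-- `π = π(H)` works always -/
theorem hM_all (h : EP H) (hs : ¬ Group.IsSolvable H) :
    ∀ g ∉ H, ∃ r ∈ (Nat.card H).primeFactors, r ∣ Nat.card (H ⊓ cj g H : Subgroup G) := by
  intro g hg
  obtain ⟨r, hr, hd⟩ := hM_odd h hs Nat.prime_three (by norm_num) g hg
  exact ⟨r, Finset.mem_of_mem_erase hr, hd⟩

/-- a subgroup `K ≤ H` of odd index, not a `2`-group, `K ≠ H`: no `M` is a `2`-group -/
theorem noTwo_of_le (h : EP H) {K : Subgroup G} (hKH : K ≤ H) (hne : K ≠ H) (hodd : ¬ 2 ∣ K.relIndex H)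
    (hK : ¬ IsPGroup 2 K) {x : G} (hx : x ∉ H) : ¬ IsPGroup 2 (H ⊓ cj x H : Subgroup G) := by
  intro hM
  have : Fact (Nat.Prime 2) := ⟨Nat.prime_two⟩
  set M : Subgroup G := H ⊓ cj x H with hMdef
  have hMH : M ≤ H := inf_le_left
  -- a Sylow 2-subgroup of `H` containing `M`
  have hM' : IsPGroup 2 (M.subgroupOf H) := hM.of_equiv (Subgroup.subgroupOfEquivOfLe hMH).symm
  obtain ⟨P, hP⟩ := hM'.exists_le_sylow
  have hPM : (P : Subgroup H) = M.subgroupOf H := by
    by_contra hne'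
    have h1 := (isCoatom_M h hx).2 _ (lt_of_le_of_ne hP (Ne.symm hne'))
    apply hK
    have h2 : IsPGroup 2 (⊤ : Subgroup H) := by rw [← h1]; exact P.2
    have h3 : IsPGroup 2 H := h2.of_equiv Subgroup.topEquiv
    exact h3.to_le hKH
  -- a Sylow 2-subgroup of `K` is a Sylow 2-subgroup of `H`
  obtain ⟨Q⟩ : Nonempty (Sylow 2 (K.subgroupOf H)) := inferInstance
  have hQcard : Nat.card ((Q : Subgroup (K.subgroupOf H)).map (K.subgroupOf H).subtype) =
      2 ^ (Nat.card H).factorization 2 := by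
    rw [Nat.card_congr ((Q : Subgroup (K.subgroupOf H)).equivMapOfInjective _ (Subgroup.subtype_injective _)).toEquiv.symm,
      Sylow.card_eq_multiplicity]
    congr 1
    have h3 := (K.subgroupOf H).card_mul_index
    rw [← h3, Nat.factorization_mul Nat.card_pos.ne' (Subgroup.index_ne_zero_of_finite), Finsupp.add_apply]
    have h4 : (K.subgroupOf H).index.factorization 2 = 0 := Nat.factorization_eq_zero_of_not_dvd hodd
    omega
  let P' : Sylow 2 H := Sylow.ofCard _ hQcard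
  obtain ⟨g, hg⟩ := MulAction.exists_smul_eq H P P'
  have h5 : ((g • P : Sylow 2 H) : Subgroup H) ≤ K.subgroupOf H := by
    rw [hg]
    rintro _ ⟨y, -, rfl⟩
    exact y.2
  have h6 : M.subgroupOf H ≤ (MulAut.conj g⁻¹ • K.subgroupOf H) := by
    rw [← hPM]
    intro y hy
    rw [Subgroup.mem_pointwise_smul_iff_inv_smul_mem, ← map_inv, inv_inv]
    apply h5
    change _ ∈ MulAut.conj g • (P : Subgroup H)
    exact Subgroup.smul_mem_pointwise_smul _ _ _ hy
  have h7 : (MulAut.conj g⁻¹ • K.subgroupOf H) ≠ ⊤ := by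
    intro e
    apply hne
    apply le_antisymm hKH
    intro y hy
    have h8 : MulAut.conj g⁻¹ (⟨y, hy⟩ : H) ∈ (MulAut.conj g⁻¹ • K.subgroupOf H) := by rw [e]; exact mem_top _
    have h9 := (Subgroup.smul_mem_pointwise_smul_iff (a := MulAut.conj g⁻¹) (S := K.subgroupOf H) (x := (⟨y, hy⟩ : H))).1 h8
    exact h9
  have h8 : (MulAut.conj g⁻¹ • K.subgroupOf H) = M.subgroupOf H := by
    by_contra hne'
    exact h7 ((isCoatom_M h hx).2 _ (lt_of_le_of_ne h6 (Ne.symm hne')))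
  apply hK
  have h9 : IsPGroup 2 (MulAut.conj g⁻¹ • K.subgroupOf H : Subgroup H) := by rw [h8]; exact hM'
  have h10 : IsPGroup 2 (K.subgroupOf H) := h9.of_equiv (Subgroup.equivSMul (MulAut.conj g⁻¹) (K.subgroupOf H)).symm
  exact h10.of_equiv (Subgroup.subgroupOfEquivOfLe hKH)

/-- `|N : N ∩ M|` divides `|H : M|` for a normal subgroup `N` -/
theorem relIndex_dvd_index {K : Type*} [Group K] [Finite K] (M N : Subgroup K) [N.Normal] : M.relIndex N ∣ M.index := by
  have h1 := Subgroup.relIndex_inf_mul_relIndex M N ⊤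
  have h2 := Subgroup.relIndex_inf_mul_relIndex N M ⊤
  simp only [inf_top_eq, relIndex_top_right] at h1 h2
  rw [inf_comm] at h2
  obtain ⟨c, hc⟩ := Subgroup.relIndex_dvd_index_of_normal N M
  refine ⟨c, ?_⟩
  have hpos : N.relIndex M ≠ 0 := Subgroup.index_ne_zero_of_finite
  have h3 : N.relIndex M * M.index = N.relIndex M * (M.relIndex N * c) := by
    rw [h2, ← h1, hc]
    ring
  exact Nat.eq_of_mul_eq_mul_left (Nat.pos_of_ne_zero hpos) h3

/-- a `2`-group `M` has odd index in `H` -/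
theorem odd_relIndex (h : EP H) (hs : ¬ Group.IsSolvable H) {x : G} (hx : x ∉ H)
    (hM : IsPGroup 2 (H ⊓ cj x H : Subgroup G)) : ¬ 2 ∣ ((H ⊓ cj x H).subgroupOf H).index := by
  have : Fact (Nat.Prime 2) := ⟨Nat.prime_two⟩
  have hM' : IsPGroup 2 ((H ⊓ cj x H).subgroupOf H) := hM.of_equiv (Subgroup.subgroupOfEquivOfLe inf_le_left).symm
  obtain ⟨P, hP⟩ := hM'.exists_le_sylow
  have hPM : (P : Subgroup H) = (H ⊓ cj x H).subgroupOf H := by
    by_contra hne'
    have h1 := (isCoatom_M h hx).2 _ (lt_of_le_of_ne hP (Ne.symm hne'))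
    apply hs
    have h2 : IsPGroup 2 (⊤ : Subgroup H) := by rw [← h1]; exact P.2
    have h3 : IsPGroup 2 H := h2.of_equiv Subgroup.topEquiv
    have := h3.isNilpotent
    infer_instance
  rw [← hPM]
  exact P.not_dvd_index

variable {N : Subgroup G} {T : Type} [Group T] {k : ℕ} {e : N ≃* (Fin k → T)}

theorem EPS.not_solvable_N (h : EPS H N e) : ¬ Group.IsSolvable N := by
  intro hs
  have h1 : Group.IsSolvable (Fin k → T) := Group.isSolvable_of_surjective (f := e.toMonoidHom) e.surjective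
  have h2 : Group.IsSolvable T := Group.isSolvable_of_surjective (f := Pi.evalMonoidHom (fun _ : Fin k => T) ⟨0, h.pos⟩)
    (Function.surjective_eval _)
  have := h.simple
  obtain ⟨a, b, hab⟩ := h.nab
  exact hab (IsSimpleGroup.comm_iff_isSolvable.2 h2 a b)

/-- `H` is not solvable -/
theorem EPS.not_solvable (h : EPS H N e) : ¬ Group.IsSolvable H := by
  intro hs
  apply EPS.not_solvable_N h
  exact Group.isSolvable_of_isSolvable_injective (f := Subgroup.inclusion h.le) (Subgroup.inclusion_injective _)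

theorem EPT2.not_solvable {N' : Subgroup G} (h : EPT2 H N N' e) : ¬ Group.IsSolvable H := by
  intro hs
  have h0 : Group.IsSolvable N := Group.isSolvable_of_isSolvable_injective (f := Subgroup.inclusion h.m1.le) (Subgroup.inclusion_injective _)
  have h1 : Group.IsSolvable (Fin k → T) := Group.isSolvable_of_surjective (f := e.toMonoidHom) e.surjective
  have h2 : Group.IsSolvable T := Group.isSolvable_of_surjective (f := Pi.evalMonoidHom (fun _ : Fin k => T) ⟨0, h.pos⟩)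
    (Function.surjective_eval _)
  have := h.simple
  obtain ⟨a, b, hab⟩ := h.nab
  exact hab (IsSimpleGroup.comm_iff_isSolvable.2 h2 a b)

/-- the `i`-th coordinate -/
noncomputable def co (e : N ≃* (Fin k → T)) (i : Fin k) : N →* T := (Pi.evalMonoidHom (fun _ : Fin k => T) i).comp e.toMonoidHom

theorem co_surj (e : N ≃* (Fin k → T)) (i : Fin k) : Function.Surjective (co e i) :=
  (Function.surjective_eval i).comp e.surjective

/-- the `i`-th factor -/
noncomputable def fa (e : N ≃* (Fin k → T)) (i : Fin k) : T →* N :=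
  e.symm.toMonoidHom.comp (MonoidHom.mulSingle (fun _ : Fin k => T) i)

theorem co_fa (e : N ≃* (Fin k → T)) (i : Fin k) (t : T) : co e i (fa e i t) = t := by
  simp [co, fa]

theorem fa_comm (e : N ≃* (Fin k → T)) (i : Fin k) {t : T} {n : N} (h : t * co e i n = co e i n * t) :
    fa e i t * n = n * fa e i t := by
  apply e.injective
  rw [map_mul, map_mul]
  funext j
  have h1 : e (fa e i t) = Pi.mulSingle i t := by simp [fa]
  rw [h1, Pi.mul_apply, Pi.mul_apply]
  by_cases hj : j = i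
  · subst hj
    rw [Pi.mulSingle_eq_same]
    exact h
  · rw [Pi.mulSingle_eq_of_ne hj, one_mul, mul_one]

theorem EPS.not_two_T (h : EPS H N e) : ¬ IsPGroup 2 T := by
  intro h1
  have : Fact (Nat.Prime 2) := ⟨Nat.prime_two⟩
  have hf : Finite T := by
    have : Finite (Fin k → T) := Finite.of_equiv _ e.toEquiv
    exact Finite.of_surjective (co e ⟨0, h.pos⟩) (co_surj e _)
  have := h1.isNilpotent
  have hsol : Group.IsSolvable T := inferInstance
  have := h.simple
  obtain ⟨a, b, hab⟩ := h.nab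
  exact hab (IsSimpleGroup.comm_iff_isSolvable.2 hsol a b)

/-- `M` a `2`-group: `|N : N ∩ M|` is odd -/
theorem EPS.odd_relIndex_N (h : EPS H N e) {x : G} (hx : x ∉ H)
    (hM : IsPGroup 2 (H ⊓ cj x H : Subgroup G)) : ¬ 2 ∣ ((H ⊓ cj x H).subgroupOf N).index := by
  intro hd
  apply odd_relIndex h.ep (EPS.not_solvable h) hx hM
  have hn : (N.subgroupOf H).Normal := ⟨fun n hn g => h.nrm g g.2 n hn⟩
  have h1 := relIndex_dvd_index ((H ⊓ cj x H).subgroupOf H) (N.subgroupOf H)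
  rw [Subgroup.relIndex_subgroupOf h.le] at h1
  exact hd.trans h1

/-- `M` a `2`-group: `N ∩ M ≠ 1` -/
theorem EPS.inf_ne_bot (h : EPS H N e) {x : G} (hx : x ∉ H)
    (hM : IsPGroup 2 (H ⊓ cj x H : Subgroup G)) : H ⊓ cj x H ⊓ N ≠ ⊥ := by
  intro hb
  apply EPS.not_solvable_N h
  apply Cfsg.Agent.S0205.result
  rw [← Nat.not_even_iff_odd, even_iff_two_dvd]
  intro hd
  apply EPS.odd_relIndex_N h hx hM
  have h1 : (H ⊓ cj x H).subgroupOf N = ⊥ := by
    rw [Subgroup.eq_bot_iff_forall]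
    intro y hy
    have h2 : (y : G) ∈ H ⊓ cj x H ⊓ N := ⟨mem_subgroupOf.1 hy, y.2⟩
    rw [hb, mem_bot] at h2
    exact Subtype.ext h2
  rw [h1, Subgroup.index_bot]
  exact hd

/-- `M` a `2`-group: an involution `z ∈ N ∩ Z(M)` with `C_H(z) = M` -/
theorem EPS.exists_z (h : EPS H N e) {x : G} (hx : x ∉ H) (hM : IsPGroup 2 (H ⊓ cj x H : Subgroup G)) :
    ∃ z ∈ N, z ∈ H ⊓ cj x H ∧ orderOf z = 2 ∧ (∀ m ∈ H ⊓ cj x H, m * z = z * m) ∧
      ∀ g ∈ H, g * z = z * g → g ∈ H ⊓ cj x H := by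
  have hp2 : Fact (Nat.Prime 2) := ⟨Nat.prime_two⟩
  set M : Subgroup G := H ⊓ cj x H with hMdef
  have hn : (N.subgroupOf M).Normal := ⟨fun n hn g => h.nrm g (mem_inf.1 g.2).1 n hn⟩
  have hne : N.subgroupOf M ≠ ⊥ := by
    intro hb
    apply EPS.inf_ne_bot h hx hM
    rw [Subgroup.eq_bot_iff_forall]
    intro y hy
    have h2 : (⟨y, hy.1⟩ : M) ∈ N.subgroupOf M := mem_subgroupOf.2 hy.2
    rw [hb, mem_bot] at h2
    exact Subtype.ext_iff.1 h2
  obtain ⟨b, hbN, hb1, hbc⟩ := Cfsg.Agent.H777.PGrp.inf_center_ne_bot hM hne hn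
  obtain ⟨j, hj⟩ := (IsPGroup.iff_orderOf.1 hM) b
  have hj0 : j ≠ 0 := by
    rintro rfl
    rw [pow_zero, orderOf_eq_one_iff] at hj
    exact hb1 hj
  obtain ⟨j, rfl⟩ := Nat.exists_eq_succ_of_ne_zero hj0
  set z : M := b ^ 2 ^ j with hz
  have hzo : orderOf z = 2 := by
    rw [hz, orderOf_pow_of_dvd (by positivity) (by rw [hj]; exact pow_dvd_pow 2 (Nat.le_succ j)), hj, Nat.succ_eq_add_one,
      pow_succ, Nat.mul_div_cancel_left _ (by positivity)]
  have hzN : (z : G) ∈ N := by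
    rw [hz]
    exact N.pow_mem (mem_subgroupOf.1 hbN) _
  have hzo' : orderOf (z : G) = 2 := by rw [Subgroup.orderOf_coe, hzo]
  have hzc : ∀ m ∈ M, m * (z : G) = z * m := by
    intro m hm
    have h1 : (⟨m, hm⟩ : M) * z = z * ⟨m, hm⟩ := by
      have h2 : Commute (⟨m, hm⟩ : M) b := hbc _
      exact (h2.pow_right (2 ^ j)).eq
    exact Subtype.ext_iff.1 h1
  refine ⟨z, hzN, z.2, hzo', hzc, fun g hg hgz => mem_inf.2 ⟨hg, ?_⟩⟩
  have hzX : ∀ m : G, m * (z : G) = z * m → ∀ k ∈ zpowers (z : G), m * k * m⁻¹ ∈ zpowers (z : G) := by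
    intro m hm k hk
    obtain ⟨i, rfl⟩ := mem_zpowers_iff.1 hk
    have h2 : Commute m ((z : G) ^ i) := Commute.zpow_right hm i
    rw [h2.eq, mul_inv_cancel_right]
    exact hk
  refine h.ep.norm hx (X := zpowers (z : G)) ?_ ?_ ?_ hg (hzX g hgz)
  · rw [zpowers_le]
    exact z.2
  · intro m hm k hk
    exact hzX m (hzc m hm) k hk
  · rw [Ne, zpowers_eq_bot]
    intro h0
    rw [h0, orderOf_one] at hzo'
    norm_num at hzo'

/-- `M` a `2`-group: `T` has an involution `t` with `C_T(t)` a `2`-group of odd index -/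
theorem EPS.exists_T (h : EPS H N e) {x : G} (hx : x ∉ H) (hM : IsPGroup 2 (H ⊓ cj x H : Subgroup G)) :
    ∃ t : T, orderOf t = 2 ∧ IsPGroup 2 (centralizer {t}) ∧ ¬ 2 ∣ (centralizer {t}).index := by
  have hp2 : Fact (Nat.Prime 2) := ⟨Nat.prime_two⟩
  obtain ⟨z, hzN, hzM, hz2, hzc, hzm⟩ := EPS.exists_z h hx hM
  let i : Fin k := ⟨0, h.pos⟩
  let t : T := co e i ⟨z, hzN⟩
  have ht : IsPGroup 2 (centralizer {t} : Subgroup T) := by
    rintro ⟨g, hg⟩
    have h1 : g * t = t * g := (mem_centralizer_singleton_iff.1 hg)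
    have h2 := fa_comm e i h1
    have h3 : ((fa e i g : N) : G) ∈ H ⊓ cj x H := hzm _ (h.le (fa e i g).2) (Subtype.ext_iff.1 h2)
    obtain ⟨j, hj⟩ := hM ⟨_, h3⟩
    refine ⟨j, ?_⟩
    have h4 : (fa e i g) ^ 2 ^ j = 1 := by
      apply Subtype.ext
      have := Subtype.ext_iff.1 hj
      simpa using this
    rw [← map_pow] at h4
    have h5 := congrArg (co e i) h4
    rw [co_fa, map_one] at h5
    exact Subtype.ext h5
  have ht2 : t ^ 2 = 1 := by
    have h1 : (⟨z, hzN⟩ : N) ^ 2 = 1 := by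
      apply Subtype.ext
      have := pow_orderOf_eq_one z
      rw [hz2] at this
      simpa using this
    have h2 := congrArg (co e i) h1
    rwa [map_pow, map_one] at h2
  have ht1 : t ≠ 1 := by
    intro h1
    apply EPS.not_two_T h
    intro g
    have hg : g ∈ (centralizer {t} : Subgroup T) := by
      rw [mem_centralizer_singleton_iff, h1, mul_one, one_mul]
    obtain ⟨j, hj⟩ := ht ⟨g, hg⟩
    exact ⟨j, by simpa using Subtype.ext_iff.1 hj⟩
  refine ⟨t, orderOf_eq_prime ht2 ht1, ht, ?_⟩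
  intro hd
  apply EPS.odd_relIndex_N h hx hM
  refine hd.trans ((Subgroup.index_dvd_of_le ?_).trans (Subgroup.index_map_dvd (H := (H ⊓ cj x H).subgroupOf N) (co_surj e i)))
  rintro _ ⟨y, hy, rfl⟩
  rw [mem_centralizer_singleton_iff]
  have h1 := hzc _ (mem_subgroupOf.1 hy)
  have h2 : y * (⟨z, hzN⟩ : N) = ⟨z, hzN⟩ * y := Subtype.ext h1
  have h3 := congrArg (co e i) h2
  rwa [map_mul, map_mul] at h3

/-- no involution of `T` has a `2`-group of odd index as centraliser: `M` is not a `2`-group -/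
theorem EPS.noTwo (h : EPS H N e)
    (hT : ∀ t : T, orderOf t = 2 → IsPGroup 2 (centralizer {t}) → 2 ∣ (centralizer {t}).index) {x : G} (hx : x ∉ H) :
    ¬ IsPGroup 2 (H ⊓ cj x H : Subgroup G) := by
  intro hM
  obtain ⟨t, h1, h2, h3⟩ := EPS.exists_T h hx hM
  exact h3 (hT t h1 h2)

/-- **hM for `s = 2`** -/
theorem EPS.hM_two (h : EPS H N e)
    (hT : ∀ t : T, orderOf t = 2 → IsPGroup 2 (centralizer {t}) → 2 ∣ (centralizer {t}).index) :
    ∀ g ∉ H, ∃ r ∈ (Nat.card H).primeFactors.erase 2, r ∣ Nat.card (H ⊓ cj g H : Subgroup G) := by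
  intro g hg
  obtain ⟨r, hr, hrs, hrd⟩ := exists_prime_of_not_pgroup Nat.prime_two (EPS.noTwo h hT hg)
  refine ⟨r, Finset.mem_erase.2 ⟨hrs, Nat.mem_primeFactors.2 ⟨hr, hrd.trans ?_, Nat.card_pos.ne'⟩⟩, hrd⟩
  exact Subgroup.card_dvd_of_le inf_le_left

/-- **hM for `s` odd** -/
theorem EPS.hM_odd (h : EPS H N e) {s : ℕ} (hsp : s.Prime) (hs2 : s ≠ 2) :
    ∀ g ∉ H, ∃ r ∈ (Nat.card H).primeFactors.erase s, r ∣ Nat.card (H ⊓ cj g H : Subgroup G) :=
  Cfsg.Agent.H742.EX.hM_odd h.ep (EPS.not_solvable h) hsp hs2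

theorem EPT2.hM_odd {N' : Subgroup G} (h : EPT2 H N N' e) {s : ℕ} (hsp : s.Prime) (hs2 : s ≠ 2) :
    ∀ g ∉ H, ∃ r ∈ (Nat.card H).primeFactors.erase s, r ∣ Nat.card (H ⊓ cj g H : Subgroup G) :=
  Cfsg.Agent.H742.EX.hM_odd h.ep (EPT2.not_solvable h) hsp hs2

end Cfsg.Agent.H742.EX
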