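import Cfsg.Agent.S3223
import Cfsg.Agent.H742.EX.NoS
import Cfsg.Prelude.Def_LieTypeChar

/-!
# S5745 (helper742): `hM` for `s = 2`, all socles of cross characteristic at once

By `S3223` a simple group `T` with an involution whose centraliser is a `2`-group of odd index is one of
`L₂(q)`, `L₃(q)`, `PSp₄(q)`, `Sz(q)`, `U₃(q)` (`q = 2 ^ n`) or `L₂(2 ^ n ± 1)`. Hence

* `list_two` : the classification;
* `EPS.list_two` : if some two-point stabiliser is a `2`-group then `T` is on the list;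
* `EPS.hM_two_cross` : `T` not of Lie type in characteristic `2` and not `L₂(2 ^ n ± 1)`: every two-point stabiliser has
  an element of odd prime order (`e_pi` with `π = π(H) - {2}`).
-/

set_option autoImplicit false
set_option linter.unusedSectionVars false

namespace Cfsg.Agent.H742.EX

open MulAction Subgroup Cfsg.Agent.H284 Cfsg.Agent.H209.EPX

/-- `T ≅ L₂(2 ^ n ± 1)` -/
def FM (T : Type) [Group T] : Prop :=
  ∃ (F : Type) (_ : Field F) (_ : Fintype F) (n : ℕ), 3 < Fintype.card F ∧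
    (Fintype.card F = 2 ^ n + 1 ∨ Fintype.card F + 1 = 2 ^ n) ∧
    Nonempty (T ≃* Matrix.ProjectiveSpecialLinearGroup (Fin 2) F)

/-- the groups of characteristic `2` on the list -/
def EvenList (T : Type) [Group T] : Prop :=
  (∃ (F : Type) (_ : Field F) (_ : Fintype F) (n : ℕ), 2 ≤ n ∧ Fintype.card F = 2 ^ n ∧
      (Nonempty (T ≃* Matrix.ProjectiveSpecialLinearGroup (Fin 2) F) ∨
        Nonempty (T ≃* Matrix.ProjectiveSpecialLinearGroup (Fin 3) F) ∨
        Nonempty (T ≃* Cfsg.PSp 2 F))) ∨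
    Cfsg.Lie.IsoSuzuki T ∨
    (∃ (F : Type) (_ : Field F) (_ : Fintype F) (n : ℕ), 2 ≤ n ∧ Fintype.card F = (2 ^ n) ^ 2 ∧
      Nonempty (T ≃* Cfsg.PSU 3 F (2 ^ n)))

theorem charTwo {F : Type} [Field F] [Fintype F] {n : ℕ} (hn : n ≠ 0) (h : Fintype.card F = 2 ^ n) : CharP F 2 := by
  obtain ⟨p, hp⟩ := CharP.exists F
  have hpp : Fact p.Prime := ⟨CharP.char_is_prime F p⟩
  obtain ⟨⟨m, hm⟩, -, hc⟩ := FiniteField.card F p
  simp only [PNat.mk_coe] at hc
  rw [hc] at h
  have h1 : p ∣ 2 ^ n := h ▸ dvd_pow_self p hm.ne'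
  have h2 : p = 2 := (Nat.prime_dvd_prime_iff_eq hpp.out Nat.prime_two).1 (hpp.out.dvd_of_dvd_pow h1)
  rwa [h2] at hp

theorem EvenList.char {T : Type} [Group T] (h : EvenList T) : IsLieTypeChar 2 T := by
  rcases h with ⟨F, i1, i2, n, hn, hF, h⟩ | h | ⟨F, i1, i2, n, hn, hF, ⟨e⟩⟩
  · have hc := charTwo (by omega) hF
    have h4 : 4 ≤ Fintype.card F := by
      rw [hF]
      calc 4 = 2 ^ 2 := by norm_num
        _ ≤ 2 ^ n := Nat.pow_le_pow_right (by norm_num) hn
    rcases h with ⟨⟨e⟩⟩ | ⟨⟨e⟩⟩ | ⟨⟨e⟩⟩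
    · exact Or.inl ⟨F, i1, i2, hc, 2, le_rfl, fun _ => h4, ⟨e⟩⟩
    · exact Or.inl ⟨F, i1, i2, hc, 3, by norm_num, by norm_num, ⟨e⟩⟩
    · exact Or.inr (Or.inl ⟨F, i1, i2, hc, 2, le_rfl, fun _ => by omega, ⟨e⟩⟩)
  · exact Or.inr (Or.inr (Or.inr (Or.inr (Or.inr (Or.inr (Or.inr (Or.inr (Or.inl ⟨rfl, h⟩))))))))
  · have hc : CharP F 2 := charTwo (n := n * 2) (by omega) (by rw [hF, pow_mul])
    have h4 : 4 ≤ 2 ^ n := by
      calc 4 = 2 ^ 2 := by norm_num
        _ ≤ 2 ^ n := Nat.pow_le_pow_right (by norm_num) hn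
    exact Or.inr (Or.inr (Or.inl ⟨F, i1, i2, hc, 3, 2 ^ n, hF, le_rfl, fun h => by omega, ⟨e⟩⟩))

/-- **The classification** (`S3223`). -/
theorem list_two {T : Type} [Group T] [Finite T] (hT : IsSimpleGroup T) (hnab : ∃ a b : T, a * b ≠ b * a) (t : T)
    (ht : orderOf t = 2) (h2 : IsPGroup 2 (centralizer {t} : Subgroup T)) (hi : ¬ 2 ∣ (centralizer {t} : Subgroup T).index) :
    EvenList T ∨ FM T := by
  have hp2 : Fact (Nat.Prime 2) := ⟨Nat.prime_two⟩
  have hns : ¬ Group.IsSolvable T := by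
    intro hs
    obtain ⟨a, b, hab⟩ := hnab
    exact hab (IsSimpleGroup.comm_iff_isSolvable.2 hs a b)
  have htop : ∀ M : Subgroup T, M = ⊤ → ¬ Group.IsSolvable M := by
    rintro M rfl hs
    exact hns (Group.isSolvable_of_isSolvable_injective (f := (Subgroup.topEquiv (G := T)).symm.toMonoidHom)
      (Subgroup.topEquiv (G := T)).symm.injective)
  let S : Sylow 2 T := h2.toSylow hi
  have hS : (S : Subgroup T) = centralizer {t} := rfl
  have key := Cfsg.Agent.S3223.result (G := T)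
    (fun M hM hMs => by
      rcases hM.eq_bot_or_eq_top with h | h
      · exact h
      · exact (htop M h hMs).elim)
    t ht S (by rw [hS]) (by
      rw [hS, Subgroup.subgroupOf_self]
      infer_instance)
    ⊤ inferInstance (fun P => by rw [top_sup_eq]; infer_instance)
    (fun M hM hMP => by
      rcases hM.eq_bot_or_eq_top with h | h
      · exfalso
        have h3 := hMP S
        rw [h, bot_sup_eq] at h3
        rcases h3.eq_bot_or_eq_top with h4 | h4
        · have h5 : t ∈ (S : Subgroup T) := by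
            rw [hS, mem_centralizer_singleton_iff]
          rw [h4, mem_bot] at h5
          rw [h5, orderOf_one] at ht
          norm_num at ht
        · have h5 : IsPGroup 2 T := (S.2.of_equiv (MulEquiv.subgroupCongr h4)).of_equiv Subgroup.topEquiv
          have := h5.isNilpotent
          exact hns inferInstance
      · rw [h])
  obtain ⟨k, E, hE1, hE2, -, hE4⟩ := key
  have hEn : ∀ i, (E i).Normal := by
    intro i
    rw [← Subgroup.normalizer_eq_top_iff, eq_top_iff, ← hE1, iSup_le_iff]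
    intro j
    by_cases hij : i = j
    · rw [hij]
      exact Subgroup.le_normalizer
    · intro x hx
      rw [Subgroup.mem_normalizer_iff]
      intro y
      constructor
      · intro hy
        rw [← hE2 i j hij y hy x hx, mul_inv_cancel_right]
        exact hy
      · intro hy
        have h3 := hE2 i j hij _ hy x hx
        have h4 : y = x * y * x⁻¹ := by
          have h5 : x * y = x * (x * y * x⁻¹) := by rw [← h3]; group
          exact mul_left_cancel h5
        rw [h4]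
        exact hy
  have hex : ∃ i, E i = ⊤ := by
    by_contra hcon
    push Not at hcon
    have h3 : (⨆ i, E i) = ⊥ := by
      rw [iSup_eq_bot]
      intro i
      exact (hEn i).eq_bot_or_eq_top.resolve_right (hcon i)
    rw [hE1] at h3
    have h4 : t ∈ (⊤ : Subgroup T) := mem_top _
    rw [h3, mem_bot] at h4
    rw [h4, orderOf_one] at ht
    norm_num at ht
  obtain ⟨i, hi⟩ := hex
  let f : T ≃* E i := (Subgroup.topEquiv (G := T)).symm.trans (MulEquiv.subgroupCongr hi.symm)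
  rcases hE4 i with ⟨F, i1, i2, n, hn, hF, h⟩ | ⟨F, i1, i2, m, hm, hF, ⟨e⟩⟩ | ⟨F, i1, i2, n, hn, hF, ⟨e⟩⟩ |
    ⟨F, i1, i2, n, hF, hc, ⟨e⟩⟩
  · left; left
    refine ⟨F, i1, i2, n, hn, hF, ?_⟩
    rcases h with ⟨⟨e⟩⟩ | ⟨⟨e⟩⟩ | ⟨⟨e⟩⟩
    · exact Or.inl ⟨f.trans e⟩
    · exact Or.inr (Or.inl ⟨f.trans e⟩)
    · exact Or.inr (Or.inr ⟨f.trans e⟩)
  · left; right; left
    exact ⟨F, i1, i2, m, hm, hF, ⟨f.trans e⟩⟩
  · left; right; right
    exact ⟨F, i1, i2, n, hn, hF, ⟨f.trans e⟩⟩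
  · right
    exact ⟨F, i1, i2, n, hF, hc, ⟨f.trans e⟩⟩

variable {G : Type*} [Group G] [Finite G] {H N : Subgroup G} {T : Type} [Group T] {k : ℕ} {e : N ≃* (Fin k → T)}

theorem EPS.finite_T (h : EPS H N e) : Finite T := by
  have : Finite (Fin k → T) := Finite.of_equiv _ e.toEquiv
  exact Finite.of_surjective (co e ⟨0, h.pos⟩) (co_surj e _)

/-- some two-point stabiliser is a `2`-group: `T` is on the list -/
theorem EPS.list_two (h : EPS H N e) {x : G} (hx : x ∉ H) (hM : IsPGroup 2 (H ⊓ cj x H : Subgroup G)) :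
    EvenList T ∨ FM T := by
  have := EPS.finite_T h
  obtain ⟨t, h1, h2, h3⟩ := EPS.exists_T h hx hM
  exact Cfsg.Agent.H742.EX.list_two h.simple h.nab t h1 h2 h3

/-- `T` not of Lie type in characteristic `2`, not `L₂(2 ^ n ± 1)`: no two-point stabiliser is a `2`-group -/
theorem EPS.noTwo_cross (h : EPS H N e) (hT : ¬ IsLieTypeChar 2 T) (hT2 : ¬ FM T) {x : G} (hx : x ∉ H) :
    ¬ IsPGroup 2 (H ⊓ cj x H : Subgroup G) := by
  intro hM
  rcases EPS.list_two h hx hM with h1 | h1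
  · exact hT h1.char
  · exact hT2 h1

/-- **hM for `s = 2`** -/
theorem EPS.hM_two_cross (h : EPS H N e) (hT : ¬ IsLieTypeChar 2 T) (hT2 : ¬ FM T) :
    ∀ g ∉ H, ∃ r ∈ (Nat.card H).primeFactors.erase 2, r ∣ Nat.card (H ⊓ cj g H : Subgroup G) := by
  intro g hg
  obtain ⟨r, hr, hrs, hrd⟩ := exists_prime_of_not_pgroup Nat.prime_two (EPS.noTwo_cross h hT hT2 hg)
  refine ⟨r, Finset.mem_erase.2 ⟨hrs, Nat.mem_primeFactors.2 ⟨hr, hrd.trans ?_, Nat.card_pos.ne'⟩⟩, hrd⟩
  exact Subgroup.card_dvd_of_le inf_le_left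

end Cfsg.Agent.H742.EX
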