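import Cfsg.Agent.H742.EX.DThree
import Cfsg.Agent.H129.Q2.CentTwo

/-!
# S5745 OWN q2, THEOREM D for `F₄(2)`, final form (helper742)
-/

set_option autoImplicit false

namespace Cfsg.Agent.H742.DThree

open Subgroup Cfsg Cfsg.Agent.OrdDiv
open Cfsg.Lie

universe u

/-- **(D3)** without the hypothesis on centralisers -/
theorem d3 {T : Type u} [Group T] [Finite T] {F : Type} [Field F] [Fintype F] (hF : Fintype.card F = 2)
    (E : T ≃* ↥(chevF4.group F)) (tab : OrderTable.{u})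
    (known : ∀ (S : Type u) [Group S] [Finite S] [IsSimpleGroup S], IsKnownSimple' S) {K : Subgroup T} (hK : K ≠ ⊤)
    (hO : ∀ D ≤ K, IsPGroup 2 D → (∀ g ∈ K, ∀ d ∈ D, g * d * g⁻¹ ∈ D) → D = ⊥) : 2 ^ 5 ∣ K.index := by
  refine D3 hF E tab known (fun y h1 h2 => ?_) hK hO
  refine Cfsg.Agent.H129.Q2.fact_f4 hF E h1 h2 (pow_orderOf_eq_one y) ?_
  rintro rfl
  rw [orderOf_one] at h1
  exact Nat.not_prime_one h1

end Cfsg.Agent.H742.DThree
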