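import Mathlib
import Cfsg.Agent.H364.OutLie
import Cfsg.Agent.S2119
import Cfsg.Agent.S0254
import Cfsg.Agent.S2066
import Cfsg.Agent.H867.TitsOut

/-!
# The simple groups of order dividing `|F₄(2)|` and their automorphism groups (helper742)

`exists_pair` : a known nonabelian simple group `S` whose order divides `|F₄(2)| = 3311126603366400` has a pair
`(|S|, c)` in `lst`, where `|Aut S| ∣ c |S|`, or is of order `|F₄(2)|`.
-/

set_option autoImplicit false

namespace Cfsg.Agent.H742.AutTab

open Cfsg Cfsg.Agent.OrdDiv Cfsg.Agent.H364.OutLie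

universe u

/-- `|Aut S|` divides `c |S|` -/
def AO (S : Type u) [Group S] (c : ℕ) : Prop := Nat.card (MulAut S) ∣ c * Nat.card S

theorem AO.of_out {S : Type u} [Group S] {c : ℕ} (h : Nat.card (Cfsg.Out S) ∣ c) : AO S c := by
  rw [AO, Subgroup.card_eq_card_quotient_mul_card_subgroup (Cfsg.Inn S)]
  exact Nat.mul_dvd_mul h (Subgroup.card_range_dvd _)

theorem AO.congr {S : Type u} [Group S] {T : Type*} [Group T] {c : ℕ} (e : S ≃* T)
    (h : Nat.card (MulAut T) = c * Nat.card T) : AO S c := by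
  rw [AO, mulaut_congr e, h, Nat.card_congr e.toEquiv]

theorem ao_psl {S : Type u} [Group S] {n p f : ℕ} (c : ℕ) (hp : p.Prime) (hf : 1 ≤ f) (hn : 2 ≤ n)
    (h2 : n = 2 → 4 ≤ p ^ f) (hc : (if n = 2 then 1 else 2) * Nat.gcd n (p ^ f - 1) * f = c)
    (h : OrdDiv.Real (.psl n (p ^ f)) S) : AO S c := by
  have := Fact.mk hp
  obtain ⟨F, _, _, hF, ⟨e⟩⟩ := h
  have h1 := Cfsg.Agent.S0813.result p f hf hF n hn h2
  rw [card_pgl hn, hF] at h1
  refine AO.congr e ?_
  rw [h1, ← hc]; ring

theorem ao_psp {S : Type u} [Group S] {n p f : ℕ} (c : ℕ) (hp : p.Prime) (hf : 1 ≤ f) (hn : 2 ≤ n)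
    (h2 : n = 2 → 3 ≤ p ^ f) (hc : (if n = 2 ∧ p = 2 then 2 else 1) * Nat.gcd 2 (p ^ f - 1) * f = c)
    (h : OrdDiv.Real (.psp n (p ^ f)) S) : AO S c := by
  have := Fact.mk hp
  obtain ⟨F, _, _, hF, ⟨e⟩⟩ := h
  have h1 := Cfsg.Agent.S0814.result p f hf hF n hn h2
  exact AO.congr e (by rw [h1, ← hc])

theorem ao_psu {S : Type u} [Group S] {n p f : ℕ} (c : ℕ) (hp : p.Prime) (hf : 1 ≤ f) (hn : 3 ≤ n)
    (h2 : ¬ (n = 3 ∧ p ^ f = 2)) (hc : Nat.gcd n (p ^ f + 1) * (2 * f) = c)
    (h : OrdDiv.Real (.psu n (p ^ f)) S) : AO S c := by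
  have := Fact.mk hp
  obtain ⟨F, _, _, hF, ⟨e⟩⟩ := h
  have h1 := Cfsg.Agent.S0815.result p f hf rfl hF n hn h2
  exact AO.congr e (by rw [h1, ← hc])

theorem ao_oplus {S : Type u} [Group S] {n p f : ℕ} (c : ℕ) (hp : p.Prime) (hf : 1 ≤ f) (hn : 4 ≤ n)
    (hc : (if n = 4 then 3 else 1) * (if p = 2 then 2 else (if Even (n * (p ^ f - 1) / 2) then 8 else 4)) * f = c)
    (h : OrdDiv.Real (.oplus n (p ^ f)) S) : AO S c := by
  have := Fact.mk hp
  obtain ⟨F, _, _, hF, ⟨e⟩⟩ := h
  have h1 := Cfsg.Agent.S0817.result p f hf hF n hn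
  exact AO.congr e (by rw [h1, ← hc])

theorem ao_ominus {S : Type u} [Group S] {n p f : ℕ} (c : ℕ) (hp : p.Prime) (hf : 1 ≤ f) (hn : 4 ≤ n)
    (hc : (if p = 2 then 2 else (if Even (n * (p ^ f - 1) / 2) then 4 else 8)) * f = c)
    (h : OrdDiv.Real (.ominus n (p ^ f)) S) : AO S c := by
  have := Fact.mk hp
  obtain ⟨F, _, _, a, b, hF, hab, ⟨e⟩⟩ := h
  have h1 := Cfsg.Agent.S0818.result p f hf hF n hn a b hab
  exact AO.congr e (by rw [h1, ← hc])

theorem card_out_congr' {X : Type u} {Y : Type*} [Group X] [Group Y] (e : X ≃* Y) :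
    Nat.card (Cfsg.Out X) = Nat.card (Cfsg.Out Y) := Cfsg.Agent.H934.OutB.card_out_congr e

theorem ao_g2 {S : Type u} [Group S] {p f : ℕ} (c : ℕ) (hp : p.Prime) (hf : 1 ≤ f)
    (h2 : 3 ≤ p ^ f) (hc : (if p = 3 then 2 * f else f) = c) (h : OrdDiv.Real (.g2 (p ^ f)) S) : AO S c := by
  have := Fact.mk hp
  obtain ⟨F, _, _, hF, ⟨e⟩⟩ := h
  have := charP_of_card hp hf hF
  refine AO.of_out ?_
  rw [card_out_congr' e, Cfsg.Agent.S2121.result p f hF h2, hc]

theorem ao_td4 {S : Type u} [Group S] {p f : ℕ} (c : ℕ) (hp : p.Prime) (hf : 1 ≤ f)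
    (hc : 3 * f = c) (h : OrdDiv.Real (.td4 (p ^ f)) S) : AO S c := by
  have := Fact.mk hp
  obtain ⟨F, _, _, hF, ⟨e⟩⟩ := h
  have hF' : Fintype.card F = p ^ (3 * f) := by rw [hF, ← pow_mul, mul_comm]
  have := charP_of_card hp (by omega) hF'
  refine AO.of_out ?_
  rw [card_out_congr' e, Cfsg.Agent.S2129.result p f hF' hf, hc]

theorem ao_sz {S : Type u} [Group S] {f : ℕ} (h : OrdDiv.Real (.sz (2 ^ f)) S) : AO S f := by
  obtain ⟨F, _, _, m, hm, hF, hq, ⟨e⟩⟩ := h
  have hfm : f = 2 * m + 1 := Nat.pow_right_injective (le_refl 2) hq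
  refine AO.of_out ?_
  rw [card_out_congr' e, Cfsg.Agent.S2126.result hm (hF.trans hq), hfm]

theorem ao_alt {S : Type u} [Group S] {n : ℕ} (hn : 4 ≤ n) (h6 : n ≠ 6) (h : OrdDiv.Real (.alt n) S) : AO S 2 := by
  obtain ⟨e⟩ := h
  have : Nontrivial (Fin n) := Fin.nontrivial_iff_two_le.2 (by omega)
  refine AO.congr e ?_
  have h1 := Nat.card_congr (Equiv.ofBijective _ (Cfsg.Agent.S2119.result n hn h6))
  rw [← h1, two_mul_nat_card_alternatingGroup]

theorem ao_alt6 {S : Type u} [Group S] (h : OrdDiv.Real (.alt 6) S) : AO S 4 := by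
  obtain ⟨e⟩ := h
  haveI : Fact (Nat.Prime 3) := ⟨by norm_num⟩
  haveI : Fintype (GaloisField 3 2) := Fintype.ofFinite _
  have hF : Fintype.card (GaloisField 3 2) = 9 := by
    rw [← Nat.card_eq_fintype_card, GaloisField.card 3 2 (by norm_num)]
    norm_num
  obtain ⟨e'⟩ := Cfsg.Agent.S0254.result hF
  exact ao_psl (n := 2) (p := 3) (f := 2) 4 (by norm_num) (by norm_num) (by norm_num) (by norm_num) (by norm_num)
    ⟨GaloisField 3 2, inferInstance, inferInstance, by rw [hF]; norm_num, ⟨e.trans e'.symm⟩⟩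

theorem ao_tits {S : Type u} [Group S] (h : OrdDiv.Real .tits S) : AO S 2 := by
  refine AO.of_out ?_
  have h1 : Nat.card (Cfsg.Out S) ≤ 2 := Cfsg.Agent.H867.TitsOut.card_out_le h
  rcases Nat.eq_zero_or_pos (Nat.card (Cfsg.Out S)) with h2 | h2
  · exfalso
    obtain ⟨e⟩ := h
    have hfin : Finite S := Finite.of_equiv _ e.symm.toEquiv
    have : Finite (MulAut S) := inferInstance
    exact Nat.card_pos.ne' h2
  · interval_cases Nat.card (Cfsg.Out S) <;> norm_num

theorem ao_j2 {S : Type u} [Group S] (h : OrdDiv.Real .j2 S) : AO S 2 := by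
  refine AO.of_out ?_
  obtain ⟨e⟩ := h
  rw [card_out_congr' e, Cfsg.Agent.S2066.result]

/-- the factorisation of `|F₄(2)|` -/
def lF : List (ℕ × ℕ) := [(2, 24), (3, 6), (5, 2), (7, 2), (13, 1), (17, 1)]

/-- `(|S|, c)` with `|Aut S| ∣ c |S|` -/
def lst : List (ℕ × ℕ) :=
  [(60, 2), (360, 4), (2520, 2), (20160, 2), (181440, 2), (1814400, 2), (168, 2), (60, 2), (20160, 12),
    (987033600, 4), (504, 3), (4080, 4), (1425715200, 24), (262080, 6), (5616, 2), (6065280, 4), (360, 4),
    (42456960, 4), (9828, 6), (60, 2), (7800, 4), (168, 2), (58800, 4), (1092, 2), (2448, 2), (1451520, 1),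
    (47377612800, 1), (979200, 4), (1056706560, 6), (25920, 2), (25920, 2), (62400, 4), (6048, 2), (3265920, 8),
    (174182400, 6), (197406720, 2), (251596800, 2), (4245696, 2), (211341312, 3), (29120, 3), (17971200, 2),
    (604800, 2)]

theorem cands_eq : cands lF 3311126603366400 =
    [.alt 5, .alt 6, .alt 7, .alt 8, .alt 9, .alt 10, .psl 3 2, .psl 4 2, .psl 2 4, .psl 3 4, .psl 4 4, .psl 2 8,
      .psl 2 16, .psl 3 16, .psl 2 64, .psl 3 3, .psl 4 3, .psl 2 9, .psl 3 9, .psl 2 27, .psl 2 5, .psl 2 25,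
      .psl 2 7, .psl 2 49, .psl 2 13, .psl 2 17, .psp 3 2, .psp 4 2, .psp 2 4, .psp 2 8, .psp 2 3, .psu 4 2,
      .psu 3 4, .psu 3 3, .psu 4 3, .oplus 4 2, .ominus 4 2, .g2 4, .g2 3, .f4 2, .td4 2, .sz 8, .tits, .j2] := by
  decide +kernel

/-- **The table** -/
theorem exists_pair (tab : OrderTable.{u}) {S : Type u} [Group S] (known : IsKnownSimple' S)
    (hna : ¬ ∀ a b : S, a * b = b * a) (hd : Nat.card S ∣ 3311126603366400) :
    Nat.card S = 3311126603366400 ∨ ∃ x ∈ lst, Nat.card S = x.1 ∧ AO S x.2 := by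
  obtain ⟨g, hg, hr, hc⟩ := exists_good tab known hna (l := lF) (N := 3311126603366400) (by decide +kernel) hd
  rw [cands_eq] at hg
  simp only [List.mem_cons, List.not_mem_nil, or_false] at hg
  have key : ∀ v c : ℕ, ordN g = v → AO S c → (v, c) ∈ lst →
      Nat.card S = 3311126603366400 ∨ ∃ x ∈ lst, Nat.card S = x.1 ∧ AO S x.2 := fun v c h1 h2 h3 =>
    Or.inr ⟨(v, c), h3, hc.trans h1, h2⟩
  rcases hg with rfl | rfl | rfl | rfl | rfl | rfl | rfl | rfl | rfl | rfl | rfl | rfl | rfl | rfl | rfl | rfl | rfl |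
    rfl | rfl | rfl | rfl | rfl | rfl | rfl | rfl | rfl | rfl | rfl | rfl | rfl | rfl | rfl | rfl | rfl | rfl |
    rfl | rfl | rfl | rfl | rfl | rfl | rfl | rfl | rfl
  · exact key 60 2 (by decide +kernel) (ao_alt (by norm_num) (by norm_num) hr) (by decide)
  · exact key 360 4 (by decide +kernel) (ao_alt6 hr) (by decide)
  · exact key 2520 2 (by decide +kernel) (ao_alt (by norm_num) (by norm_num) hr) (by decide)
  · exact key 20160 2 (by decide +kernel) (ao_alt (by norm_num) (by norm_num) hr) (by decide)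
  · exact key 181440 2 (by decide +kernel) (ao_alt (by norm_num) (by norm_num) hr) (by decide)
  · exact key 1814400 2 (by decide +kernel) (ao_alt (by norm_num) (by norm_num) hr) (by decide)
  · exact key 168 2 (by decide +kernel) (ao_psl (n := 3) (p := 2) (f := 1) 2 (by norm_num) (by norm_num)
      (by norm_num) (by norm_num) (by norm_num) hr) (by decide)
  · exact key 20160 2 (by decide +kernel) (ao_psl (n := 4) (p := 2) (f := 1) 2 (by norm_num) (by norm_num)
      (by norm_num) (by norm_num) (by norm_num) hr) (by decide)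
  · exact key 60 2 (by decide +kernel) (ao_psl (n := 2) (p := 2) (f := 2) 2 (by norm_num) (by norm_num)
      (by norm_num) (by norm_num) (by norm_num) hr) (by decide)
  · exact key 20160 12 (by decide +kernel) (ao_psl (n := 3) (p := 2) (f := 2) 12 (by norm_num) (by norm_num)
      (by norm_num) (by norm_num) (by norm_num) hr) (by decide)
  · exact key 987033600 4 (by decide +kernel) (ao_psl (n := 4) (p := 2) (f := 2) 4 (by norm_num) (by norm_num)
      (by norm_num) (by norm_num) (by norm_num) hr) (by decide)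
  · exact key 504 3 (by decide +kernel) (ao_psl (n := 2) (p := 2) (f := 3) 3 (by norm_num) (by norm_num)
      (by norm_num) (by norm_num) (by norm_num) hr) (by decide)
  · exact key 4080 4 (by decide +kernel) (ao_psl (n := 2) (p := 2) (f := 4) 4 (by norm_num) (by norm_num)
      (by norm_num) (by norm_num) (by norm_num) hr) (by decide)
  · exact key 1425715200 24 (by decide +kernel) (ao_psl (n := 3) (p := 2) (f := 4) 24 (by norm_num) (by norm_num)
      (by norm_num) (by norm_num) (by norm_num) hr) (by decide)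
  · exact key 262080 6 (by decide +kernel) (ao_psl (n := 2) (p := 2) (f := 6) 6 (by norm_num) (by norm_num)
      (by norm_num) (by norm_num) (by norm_num) hr) (by decide)
  · exact key 5616 2 (by decide +kernel) (ao_psl (n := 3) (p := 3) (f := 1) 2 (by norm_num) (by norm_num)
      (by norm_num) (by norm_num) (by norm_num) hr) (by decide)
  · exact key 6065280 4 (by decide +kernel) (ao_psl (n := 4) (p := 3) (f := 1) 4 (by norm_num) (by norm_num)
      (by norm_num) (by norm_num) (by norm_num) hr) (by decide)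
  · exact key 360 4 (by decide +kernel) (ao_psl (n := 2) (p := 3) (f := 2) 4 (by norm_num) (by norm_num)
      (by norm_num) (by norm_num) (by norm_num) hr) (by decide)
  · exact key 42456960 4 (by decide +kernel) (ao_psl (n := 3) (p := 3) (f := 2) 4 (by norm_num) (by norm_num)
      (by norm_num) (by norm_num) (by norm_num) hr) (by decide)
  · exact key 9828 6 (by decide +kernel) (ao_psl (n := 2) (p := 3) (f := 3) 6 (by norm_num) (by norm_num)
      (by norm_num) (by norm_num) (by norm_num) hr) (by decide)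
  · exact key 60 2 (by decide +kernel) (ao_psl (n := 2) (p := 5) (f := 1) 2 (by norm_num) (by norm_num)
      (by norm_num) (by norm_num) (by norm_num) hr) (by decide)
  · exact key 7800 4 (by decide +kernel) (ao_psl (n := 2) (p := 5) (f := 2) 4 (by norm_num) (by norm_num)
      (by norm_num) (by norm_num) (by norm_num) hr) (by decide)
  · exact key 168 2 (by decide +kernel) (ao_psl (n := 2) (p := 7) (f := 1) 2 (by norm_num) (by norm_num)
      (by norm_num) (by norm_num) (by norm_num) hr) (by decide)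
  · exact key 58800 4 (by decide +kernel) (ao_psl (n := 2) (p := 7) (f := 2) 4 (by norm_num) (by norm_num)
      (by norm_num) (by norm_num) (by norm_num) hr) (by decide)
  · exact key 1092 2 (by decide +kernel) (ao_psl (n := 2) (p := 13) (f := 1) 2 (by norm_num) (by norm_num)
      (by norm_num) (by norm_num) (by norm_num) hr) (by decide)
  · exact key 2448 2 (by decide +kernel) (ao_psl (n := 2) (p := 17) (f := 1) 2 (by norm_num) (by norm_num)
      (by norm_num) (by norm_num) (by norm_num) hr) (by decide)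
  · exact key 1451520 1 (by decide +kernel) (ao_psp (n := 3) (p := 2) (f := 1) 1 (by norm_num) (by norm_num)
      (by norm_num) (by norm_num) (by norm_num) hr) (by decide)
  · exact key 47377612800 1 (by decide +kernel) (ao_psp (n := 4) (p := 2) (f := 1) 1 (by norm_num) (by norm_num)
      (by norm_num) (by norm_num) (by norm_num) hr) (by decide)
  · exact key 979200 4 (by decide +kernel) (ao_psp (n := 2) (p := 2) (f := 2) 4 (by norm_num) (by norm_num)
      (by norm_num) (by norm_num) (by norm_num) hr) (by decide)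
  · exact key 1056706560 6 (by decide +kernel) (ao_psp (n := 2) (p := 2) (f := 3) 6 (by norm_num) (by norm_num)
      (by norm_num) (by norm_num) (by norm_num) hr) (by decide)
  · exact key 25920 2 (by decide +kernel) (ao_psp (n := 2) (p := 3) (f := 1) 2 (by norm_num) (by norm_num)
      (by norm_num) (by norm_num) (by norm_num) hr) (by decide)
  · exact key 25920 2 (by decide +kernel) (ao_psu (n := 4) (p := 2) (f := 1) 2 (by norm_num) (by norm_num)
      (by norm_num) (by norm_num) (by norm_num) hr) (by decide)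
  · exact key 62400 4 (by decide +kernel) (ao_psu (n := 3) (p := 2) (f := 2) 4 (by norm_num) (by norm_num)
      (by norm_num) (by norm_num) (by norm_num) hr) (by decide)
  · exact key 6048 2 (by decide +kernel) (ao_psu (n := 3) (p := 3) (f := 1) 2 (by norm_num) (by norm_num)
      (by norm_num) (by norm_num) (by norm_num) hr) (by decide)
  · exact key 3265920 8 (by decide +kernel) (ao_psu (n := 4) (p := 3) (f := 1) 8 (by norm_num) (by norm_num)
      (by norm_num) (by norm_num) (by norm_num) hr) (by decide)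
  · exact key 174182400 6 (by decide +kernel) (ao_oplus (n := 4) (p := 2) (f := 1) 6 (by norm_num) (by norm_num)
      (by norm_num) (by norm_num) hr) (by decide)
  · exact key 197406720 2 (by decide +kernel) (ao_ominus (n := 4) (p := 2) (f := 1) 2 (by norm_num) (by norm_num)
      (by norm_num) (by norm_num) hr) (by decide)
  · exact key 251596800 2 (by decide +kernel) (ao_g2 (p := 2) (f := 2) 2 (by norm_num) (by norm_num)
      (by norm_num) (by norm_num) hr) (by decide)
  · exact key 4245696 2 (by decide +kernel) (ao_g2 (p := 3) (f := 1) 2 (by norm_num) (by norm_num)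
      (by norm_num) (by norm_num) hr) (by decide)
  · exact Or.inl (hc.trans (by decide +kernel))
  · exact key 211341312 3 (by decide +kernel) (ao_td4 (p := 2) (f := 1) 3 (by norm_num) (by norm_num)
      (by norm_num) hr) (by decide)
  · exact key 29120 3 (by decide +kernel) (ao_sz (f := 3) hr) (by decide)
  · exact key 17971200 2 (by decide +kernel) (ao_tits hr) (by decide)
  · exact key 604800 2 (by decide +kernel) (ao_j2 hr) (by decide)

end Cfsg.Agent.H742.AutTab
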