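import Cfsg.Agent.H332.EPO.TwoD
import Cfsg.Agent.H742.EX.AutTab
import Cfsg.Agent.SigTab.AltFFour
import Cfsg.Agent.BpSpor.Act

/-!
# S5745 OWN q2, THEOREM D for `F₄(2)` (helper742)

`D3` : a proper subgroup `K` of `F₄(2)` with `O_2(K) = 1` has `2 ^ 5 ∣ |T : K|`, given `|C_T(y)|_2 ≤ 2 ^ 9` for all `y` of
odd prime order.

Proof: `|K|_2 ≤ 2 ^ 19` by the dichotomy of helper332; for a normal `3`-subgroup of order at least `3 ^ 5` the centraliser
has odd order (Borel–Tits), the rest is the table of the simple groups of order dividing `|F₄(2)|`.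
-/

set_option autoImplicit false
set_option linter.unusedSectionVars false

namespace Cfsg.Agent.H742.DThree

open Subgroup Cfsg Cfsg.Agent.OrdDiv Cfsg.Agent.H332.EPO Cfsg.Agent.H742.AutTab
open Cfsg.Lie

universe u

/-- the order of `F₄(2)` -/
abbrev NF : ℕ := 3311126603366400

/-! ### the dichotomy, with a normal `M` -/

section

variable {X : Type*} [Group X] [Finite X]

/-- helper332's `dich` with `M` normal. -/
theorem dichN [Nontrivial X] {c : ℕ}
    (hC : ∀ y : X, (orderOf y).Prime → orderOf y ≠ 2 → (Nat.card (centralizer ({y} : Set X))).factorization 2 ≤ c)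
    (hO : ∀ E : Subgroup X, E.Normal → IsPGroup 2 E → E = ⊥) :
    (∃ (r m : ℕ) (M : Subgroup X), r.Prime ∧ r ≠ 2 ∧ 0 < m ∧ Nat.card M = r ^ m ∧ M.Normal ∧ ¬ IsPGroup 2 M) ∨
    (∃ (L : Subgroup X) (m : ℕ), IsSimpleGroup L ∧ (∃ a b : L, a * b ≠ b * a) ∧ 0 < m ∧ Nat.card L ^ m ∣ Nat.card X ∧
      ((m = 1 ∧ (Nat.card X).factorization 2 ≤ (Nat.card (MulAut L)).factorization 2) ∨
        ((Nat.card L).factorization 2 ≤ c ∧ (Nat.card X).factorization 2 ≤
          m.factorization 2 + (Nat.card (MulAut L)).factorization 2 + c))) := by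
  classical
  obtain ⟨M, hMn, hM0, hMm⟩ := exists_minNormal (X := X)
  by_cases hab : ∀ x ∈ M, ∀ y ∈ M, Commute x y
  · left
    obtain ⟨S, m, hSM, hS, hm, ⟨e⟩⟩ := Cfsg.Agent.Lib.MinNormal.exists_mulEquiv_pi M hM0 hMm
    have hcS : ∀ a b : S, a * b = b * a := fun a b => Subtype.ext (hab a (hSM a.2) b (hSM b.2))
    let _ : CommGroup S := { (inferInstance : Group S) with mul_comm := hcS }
    have hpr : (Nat.card S).Prime := IsSimpleGroup.prime_card
    have hcM : Nat.card M = Nat.card S ^ m := by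
      rw [Nat.card_congr e.toEquiv, Nat.card_pi, Finset.prod_const, Finset.card_univ, Fintype.card_fin]
    have hr2 : Nat.card S ≠ 2 := by
      intro h
      apply hM0
      refine hO M hMn (IsPGroup.of_card (n := m) ?_)
      rw [hcM, h]
    exact ⟨Nat.card S, m, M, hpr, hr2, hm, hcM, hMn, fun h => hM0 (hO M hMn h)⟩
  · right
    obtain ⟨m, S, e, hm, hS, hna, hinj, hSM, -, hconj, htrans, he, hcoord⟩ :=
      Cfsg.Agent.PermutationGroups.OnanScott.exists_coordinates M hMm hab
    obtain ⟨o, -⟩ : ∃ o : Fin m, True := ⟨⟨0, hm⟩, trivial⟩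
    have hcard : ∀ i, Nat.card (S i) = Nat.card (S o) := by
      intro i
      obtain ⟨g, hg⟩ := htrans o i
      rw [hg]
      exact Nat.card_congr ((S o).equivMapOfInjective _ (MulAut.conj g).injective).toEquiv.symm
    have hcM : Nat.card M = Nat.card (S o) ^ m := by
      rw [Nat.card_congr e.toEquiv, Nat.card_pi, Finset.prod_congr rfl (fun i _ => hcard i), Finset.prod_const,
        Finset.card_univ, Fintype.card_fin]
    have hn2 : ¬ IsPGroup 2 (S o) := not_two (hS _) (hna _)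
    have hidx := index_nz hinj hconj htrans o
    have hfac := card_fac (S o)
    rw [hidx] at hfac
    refine ⟨S o, m, hS _, hna _, hm, hcM ▸ Subgroup.card_subgroup_dvd_card M, ?_⟩
    by_cases hm1 : m = 1
    · -- `M` is simple
      have hML : M = S o := by
        symm
        apply Subgroup.eq_of_le_of_card_ge (hSM _)
        rw [hcM, hm1, pow_one]
      have hm2 : m.factorization 2 = 0 := by rw [hm1, Nat.factorization_one, Finsupp.zero_apply]
      by_cases hc0 : centralizer ((S o : Subgroup X) : Set X) = ⊥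
      · left
        refine ⟨hm1, ?_⟩
        rw [hc0, Subgroup.card_bot, hm2, Nat.factorization_one, Finsupp.zero_apply] at hfac
        omega
      · right
        have hnc : (centralizer ((S o : Subgroup X) : Set X)).Normal := by
          rw [← hML]
          infer_instance
        have h1 : ¬ IsPGroup 2 (centralizer ((S o : Subgroup X) : Set X)) := fun h => hc0 (hO _ hnc h)
        refine ⟨fac_of_comm hC h1 ?_, ?_⟩
        · intro x hx y hy
          exact ((mem_centralizer_iff.1 hy) x hx).symm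
        · have h2 := cent_fac hC hn2
          omega
    · right
      obtain ⟨o', ho'⟩ : ∃ o' : Fin m, o' ≠ o := by
        have : Nontrivial (Fin m) := Fin.nontrivial_iff_two_le.2 (by omega)
        exact exists_ne o
      have h1 : S o ≤ centralizer ((S o' : Subgroup X) : Set X) := by
        intro x hx y hy
        have h2 : e (⟨x, hSM _ hx⟩ : M) o' = 1 := by
          have h3 := he o ⟨x, hx⟩
          have h4 : (⟨x, hSM _ hx⟩ : M) = e.symm (Pi.mulSingle o ⟨x, hx⟩) := Subtype.ext h3.symm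
          rw [h4, MulEquiv.apply_symm_apply, Pi.mulSingle_eq_of_ne ho']
        have h3 := (hcoord (⟨x, hSM _ hx⟩ : M) o').1 h2 y hy
        exact h3.eq.symm
      refine ⟨fac_of_comm hC (not_two (hS _) (hna _)) h1, ?_⟩
      have h2 := cent_fac hC hn2
      omega

end

/-! ### arithmetic -/

theorem fac_lt {a k : ℕ} (ha : a ≠ 0) (h : ¬ 2 ^ (k + 1) ∣ a) : a.factorization 2 ≤ k := by
  by_contra hcon
  exact h ((Nat.prime_two.pow_dvd_iff_le_factorization ha).2 (by omega))

theorem not_dvd_of {a k : ℕ} (ha : a ≠ 0) (h : a.factorization 2 ≤ k) : ¬ 2 ^ (k + 1) ∣ a := by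
  intro h1
  have := (Nat.prime_two.pow_dvd_iff_le_factorization ha).1 h1
  omega

/-- the possible `(r, m)` -/
theorem rm_cases {r m : ℕ} (hr : r.Prime) (h2 : r ≠ 2) (hm : 0 < m) (hd : r ^ m ∣ NF) :
    (r = 3 ∧ m ≤ 6) ∨ (r = 5 ∧ m ≤ 2) ∨ (r = 7 ∧ m ≤ 2) ∨ (r = 13 ∧ m ≤ 1) ∨ (r = 17 ∧ m ≤ 1) := by
  have hNF : NF = 2 ^ 24 * (3 ^ 6 * (5 ^ 2 * (7 ^ 2 * (13 * 17)))) := by norm_num [NF]
  have h1 : r ∣ NF := (dvd_pow_self r hm.ne').trans hd
  have key : ∀ k : ℕ, ¬ r ^ (k + 1) ∣ NF → m ≤ k := by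
    intro k hk
    by_contra hcon
    exact hk ((pow_dvd_pow r (by omega)).trans hd)
  rw [hNF, hr.dvd_mul, hr.dvd_mul, hr.dvd_mul, hr.dvd_mul, hr.dvd_mul] at h1
  rcases h1 with h1 | h1 | h1 | h1 | h1 | h1
  · exact absurd ((Nat.prime_dvd_prime_iff_eq hr Nat.prime_two).1 (hr.dvd_of_dvd_pow h1)) h2
  · have h3 := (Nat.prime_dvd_prime_iff_eq hr Nat.prime_three).1 (hr.dvd_of_dvd_pow h1)
    subst h3
    exact Or.inl ⟨rfl, key 6 (by norm_num [NF])⟩
  · have h3 := (Nat.prime_dvd_prime_iff_eq hr Nat.prime_five).1 (hr.dvd_of_dvd_pow h1)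
    subst h3
    exact Or.inr (Or.inl ⟨rfl, key 2 (by norm_num [NF])⟩)
  · have h3 := (Nat.prime_dvd_prime_iff_eq hr Nat.prime_seven).1 (hr.dvd_of_dvd_pow h1)
    subst h3
    exact Or.inr (Or.inr (Or.inl ⟨rfl, key 2 (by norm_num [NF])⟩))
  · have h3 := (Nat.prime_dvd_prime_iff_eq hr (by norm_num : Nat.Prime 13)).1 h1
    subst h3
    exact Or.inr (Or.inr (Or.inr (Or.inl ⟨rfl, key 1 (by norm_num [NF])⟩)))
  · have h3 := (Nat.prime_dvd_prime_iff_eq hr (by norm_num : Nat.Prime 17)).1 h1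
    subst h3
    exact Or.inr (Or.inr (Or.inr (Or.inr ⟨rfl, key 1 (by norm_num [NF])⟩)))

/-- `|GL_d(r)|` -/
def gl (r d : ℕ) : ℕ := ∏ i : Fin d, (r ^ d - r ^ (i : ℕ))

theorem gl_tab : (∀ d < 5, gl 3 d ≠ 0 ∧ ¬ 2 ^ 10 ∣ gl 3 d) ∧ (∀ d < 7, gl 3 d ≠ 0 ∧ ¬ 2 ^ 14 ∣ gl 3 d) ∧
    (∀ d < 3, gl 5 d ≠ 0 ∧ ¬ 2 ^ 10 ∣ gl 5 d) ∧ (∀ d < 3, gl 7 d ≠ 0 ∧ ¬ 2 ^ 10 ∣ gl 7 d) ∧
    (∀ d < 2, gl 13 d ≠ 0 ∧ ¬ 2 ^ 10 ∣ gl 13 d) ∧ (∀ d < 2, gl 17 d ≠ 0 ∧ ¬ 2 ^ 10 ∣ gl 17 d) := by
  decide +kernel

theorem lst_tab : (∀ x ∈ lst, x.1 * x.2 ≠ 0 ∧ ¬ 2 ^ 17 ∣ x.1 * x.2) ∧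
    (∀ x ∈ lst, ¬ 2 ^ 10 ∣ x.1 → ¬ 2 ^ 11 ∣ x.1 * x.2) ∧
    (∀ x ∈ lst, x.1 ^ 2 ∣ NF → ¬ 2 ^ 10 ∣ x.1 * x.2) ∧ (∀ x ∈ lst, ¬ x.1 ^ 3 ∣ NF) := by
  decide +kernel

/-- the 2-part of the automorphism group of an `r`-group -/
theorem aut_fac {M : Type*} [Group M] [Finite M] {r m k : ℕ} (hr : r.Prime) (h2 : r ≠ 2) (hM : Nat.card M = r ^ m)
    (hk : ∀ d < m + 1, gl r d ≠ 0 ∧ ¬ 2 ^ (k + 1) ∣ gl r d) : (Nat.card (MulAut M)).factorization 2 ≤ k := by
  have := Fact.mk hr
  obtain ⟨d, e, hd, -, h3⟩ := Cfsg.Agent.BpSpor.card_mulAut_dvd (IsPGroup.of_card hM) hM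
  obtain ⟨h4, h5⟩ := hk d (by omega)
  have h6 : r ^ e * gl r d ≠ 0 := Nat.mul_ne_zero (pow_ne_zero _ hr.ne_zero) h4
  refine (fac_mono h3 h6).trans ?_
  show (r ^ e * gl r d).factorization 2 ≤ k
  rw [fac_mul (pow_ne_zero _ hr.ne_zero) h4, Nat.factorization_pow, Finsupp.smul_apply,
    Nat.factorization_eq_zero_of_not_dvd
      (fun h => h2 ((Nat.prime_dvd_prime_iff_eq Nat.prime_two hr).1 h).symm), smul_zero, zero_add]
  exact fac_lt h4 h5

/-! ### `F₄(2)` -/

section

variable {T : Type u} [Group T] [Finite T] {F : Type} [Field F] [Fintype F] (hF : Fintype.card F = 2)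
  (E : T ≃* ↥(chevF4.group F))

include hF E

/-- **a subgroup of order `3 ^ m`, `m ≥ 5`, has a centraliser of odd order** -/
theorem cent_odd {M : Subgroup T} {m : ℕ} (hm : 5 ≤ m) (hM : Nat.card M = 3 ^ m) :
    ¬ 2 ∣ Nat.card (centralizer (M : Set T)) := by
  intro h2
  have : Fact (Nat.Prime 2) := ⟨Nat.prime_two⟩
  obtain ⟨⟨t, ht⟩, hto⟩ := exists_prime_orderOf_dvd_card' 2 h2
  have hto' : orderOf t = 2 := by
    rw [← hto]
    exact (Subgroup.orderOf_mk t ht).symm
  set s : ↥(chevF4.group F) := E t with hs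
  have hso : orderOf s = 2 := by rw [hs, MulEquiv.orderOf_eq, hto']
  set Z : Subgroup ↥(chevF4.group F) := zpowers s with hZ
  have hZ2 : IsPGroup 2 Z := IsPGroup.of_card (n := 1) (by rw [Nat.card_zpowers, hso, pow_one])
  have hZ1 : Z ≠ ⊥ := by
    intro h
    have h3 : s = 1 := by
      rw [← mem_bot, ← h]
      exact mem_zpowers s
    rw [h3, orderOf_one] at hso
    norm_num at hso
  have hloc : IsTwoLocal (normalizer (Z : Set ↥(chevF4.group F))) := ⟨Z, hZ2, hZ1, rfl⟩
  obtain ⟨a, ha⟩ := Cfsg.Agent.SigZero.FFourTwo.card_two_local (K := F)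
    (by rw [Nat.card_eq_fintype_card, hF]) hloc
  have hle : M.map E.toMonoidHom ≤ normalizer (Z : Set ↥(chevF4.group F)) := by
    rintro _ ⟨x, hx, rfl⟩
    have h3 : x * t = t * x := (mem_centralizer_iff.1 ht) x hx
    have h4 : E x * s * (E x)⁻¹ = s := by
      rw [hs, ← map_mul, h3, map_mul, mul_assoc, mul_inv_cancel, mul_one]
    have h5 : (E x) ∈ centralizer (Z : Set ↥(chevF4.group F)) := by
      rw [mem_centralizer_iff]
      rintro z ⟨k, rfl⟩
      have h6 : Commute (E x) s := by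
        have := congrArg (fun w => w * E x) h4
        simp only [mul_assoc, inv_mul_cancel, mul_one] at this
        exact this
      exact (h6.zpow_right k).eq.symm
    exact centralizer_le_normalizer _ h5
  have h3 := (Subgroup.card_dvd_of_le hle).trans ha
  rw [Subgroup.card_map_of_injective E.injective, hM] at h3
  have h4 : 3 ^ 5 ∣ 2 ^ a * 2835 := (pow_dvd_pow 3 hm).trans h3
  have h5 := Cfsg.Agent.SigZero.FFourTwo.pow_dvd_odd Nat.prime_three (by norm_num) h4
  norm_num at h5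

/-- **(D3)** -/
theorem D3 (tab : OrderTable.{u}) (known : ∀ (S : Type u) [Group S] [Finite S] [IsSimpleGroup S], IsKnownSimple' S)
    (hC : ∀ y : T, (orderOf y).Prime → orderOf y ≠ 2 → (Nat.card (centralizer ({y} : Set T))).factorization 2 ≤ 9)
    {K : Subgroup T} (hK : K ≠ ⊤)
    (hO : ∀ D ≤ K, IsPGroup 2 D → (∀ g ∈ K, ∀ d ∈ D, g * d * g⁻¹ ∈ D) → D = ⊥) : 2 ^ 5 ∣ K.index := by
  have hcT : Nat.card T = NF := by
    rw [Nat.card_congr E.toEquiv, tab.f4 F 2 hF]
    norm_num [NF]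
  have hKd : Nat.card K ∣ NF := by
    rw [← hcT]
    exact K.card_subgroup_dvd_card
  have hK0 : Nat.card K ≠ 0 := Nat.card_pos.ne'
  suffices h19 : (Nat.card K).factorization 2 ≤ 19 by
    have h1 := K.card_mul_index
    rw [hcT] at h1
    have h2 : NF.factorization 2 = (Nat.card K).factorization 2 + K.index.factorization 2 := by
      rw [← h1, fac_mul hK0 index_ne_zero_of_finite]
    have h3 : 24 ≤ NF.factorization 2 :=
      (Nat.prime_two.pow_dvd_iff_le_factorization (by norm_num [NF])).1 (by norm_num [NF])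
    exact (Nat.prime_two.pow_dvd_iff_le_factorization index_ne_zero_of_finite).2 (by omega)
  rcases subsingleton_or_nontrivial K with hs | hn
  · have h1 : Nat.card K = 1 := Nat.card_unique
    rw [h1, Nat.factorization_one]
    norm_num
  have hC' : ∀ y : K, (orderOf y).Prime → orderOf y ≠ 2 →
      (Nat.card (centralizer ({y} : Set K))).factorization 2 ≤ 9 := by
    intro y h1 h2
    have h3 : Nat.card (centralizer ({y} : Set K)) ∣ Nat.card (centralizer ({(y : T)} : Set T)) := by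
      have h4 : Nat.card ((centralizer ({y} : Set K)).map K.subtype) = Nat.card (centralizer ({y} : Set K)) :=
        Subgroup.card_map_of_injective K.subtype_injective
      rw [← h4]
      apply Subgroup.card_dvd_of_le
      rintro _ ⟨x, hx, rfl⟩
      rw [mem_centralizer_singleton_iff]
      exact congrArg Subtype.val (mem_centralizer_singleton_iff.1 hx)
    refine (fac_mono h3 Nat.card_pos.ne').trans (hC y ?_ ?_)
    · rwa [Subgroup.orderOf_coe]
    · rwa [Subgroup.orderOf_coe]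
  have hO' : ∀ D : Subgroup K, D.Normal → IsPGroup 2 D → D = ⊥ := by
    intro D hD h2
    have h3 := hO (D.map K.subtype) (by rintro _ ⟨x, -, rfl⟩; exact x.2) (h2.map _) (by
      rintro g hg _ ⟨x, hx, rfl⟩
      exact ⟨⟨g, hg⟩ * x * ⟨g, hg⟩⁻¹, hD.conj_mem x hx ⟨g, hg⟩, rfl⟩)
    exact (Subgroup.map_eq_bot_iff_of_injective _ K.subtype_injective).1 h3
  rcases dichN hC' hO' with ⟨r, m, M, hr, h2, hm, hM, hMn, hM2⟩ | ⟨L, m, hL, hna, hm, hLd, hcase⟩
  · have h1 := card_fac M
    have h3 : (normalizer (M : Set K)).index = 1 := by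
      rw [index_eq_one, normalizer_eq_top_iff]
      exact hMn
    rw [h3, Nat.factorization_one, Finsupp.zero_apply, zero_add] at h1
    have h4 := cent_fac hC' hM2
    have h5 : r ^ m ∣ NF := by
      rw [← hM]
      exact (M.card_subgroup_dvd_card).trans hKd
    obtain ⟨t1, t2, t3, t4, t5, t6⟩ := gl_tab
    rcases rm_cases hr h2 hm h5 with ⟨rfl, h6⟩ | ⟨rfl, h6⟩ | ⟨rfl, h6⟩ | ⟨rfl, h6⟩ | ⟨rfl, h6⟩
    · by_cases h7 : m ≤ 4
      · have h8 := aut_fac hr h2 hM (k := 9) (fun d hd => t1 d (by omega))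
        omega
      · have h8 := aut_fac hr h2 hM (k := 13) (fun d hd => t2 d (by omega))
        have h9 : ¬ 2 ∣ Nat.card (centralizer (M : Set K)) := by
          intro h10
          apply cent_odd hF E (M := M.map K.subtype) (m := m) (by omega)
            (by rw [Subgroup.card_map_of_injective K.subtype_injective, hM])
          refine h10.trans ?_
          have h11 : Nat.card ((centralizer (M : Set K)).map K.subtype) = Nat.card (centralizer (M : Set K)) :=
            Subgroup.card_map_of_injective K.subtype_injective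
          rw [← h11]
          apply Subgroup.card_dvd_of_le
          rintro _ ⟨x, hx, rfl⟩
          rw [mem_centralizer_iff]
          rintro _ ⟨y, hy, rfl⟩
          exact congrArg Subtype.val ((mem_centralizer_iff.1 hx) y hy)
        have h10 := Nat.factorization_eq_zero_of_not_dvd h9
        omega
    · have h8 := aut_fac hr h2 hM (k := 9) (fun d hd => t3 d (by omega))
      omega
    · have h8 := aut_fac hr h2 hM (k := 9) (fun d hd => t4 d (by omega))
      omega
    · have h8 := aut_fac hr h2 hM (k := 9) (fun d hd => t5 d (by omega))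
      omega
    · have h8 := aut_fac hr h2 hM (k := 9) (fun d hd => t6 d (by omega))
      omega
  · have hLT : Nat.card L ∣ NF := ((dvd_pow_self _ hm.ne').trans hLd).trans hKd
    have hna' : ¬ ∀ a b : L, a * b = b * a := by
      intro h
      obtain ⟨a, b, hab⟩ := hna
      exact hab (h a b)
    rcases exists_pair tab (known L) hna' hLT with h1 | ⟨x, hx, h1, h3⟩
    · exfalso
      apply hK
      apply Subgroup.eq_top_of_card_eq
      apply Nat.dvd_antisymm K.card_subgroup_dvd_card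
      rw [hcT]
      exact (h1 ▸ L.card_subgroup_dvd_card : (3311126603366400 : ℕ) ∣ Nat.card K)
    · obtain ⟨t1, t2, t3, t4⟩ := lst_tab
      obtain ⟨t5, t6⟩ := t1 x hx
      have h4 : Nat.card (MulAut L) ∣ x.1 * x.2 := by
        have h5 : Nat.card (MulAut L) ∣ x.2 * Nat.card L := h3
        rwa [h1, mul_comm] at h5
      have h5 := fac_mono h4 t5
      have hL0 : Nat.card L ≠ 0 := Nat.card_pos.ne'
      rcases hcase with ⟨-, h6⟩ | ⟨h6, h7⟩
      · have h8 := fac_lt t5 (k := 16) t6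
        omega
      · rcases Nat.lt_or_ge m 3 with h8 | h8
        · have h9 : m = 1 ∨ m = 2 := by omega
          rcases h9 with rfl | rfl
          · have h10 := fac_lt t5 (k := 10) (t2 x hx (by
              rw [← h1]
              exact not_dvd_of hL0 h6))
            rw [Nat.factorization_one, Finsupp.zero_apply] at h7
            omega
          · have h10 := fac_lt t5 (k := 9) (t3 x hx (by
              rw [← h1]
              exact hLd.trans hKd))
            have h11 : (2 : ℕ).factorization 2 = 1 := Nat.prime_two.factorization_self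
            rw [h11] at h7
            omega
        · exfalso
          apply t4 x hx
          rw [← h1]
          exact ((pow_dvd_pow _ h8).trans hLd).trans hKd

end

end Cfsg.Agent.H742.DThree
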